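import Mathlib
import Cfsg.Agent.Lib.GTwoZorn.Order
import Cfsg.Agent.Lib.FormRep.Common

/-!
Trace, norm and polar form of Zorn's algebra; extension of the scalars of its automorphisms.
-/

set_option autoImplicit false

namespace CfsgLib.GTwoSpec

open Cfsg.Lie Cfsg.Agent.GTwoZorn Matrix

variable {F : Type*} [Field F]

/-- The identity. -/
def one8 : Fin 8 → F := pk 1 0 0 1

/-- The trace. -/
def tr8 (x : Fin 8 → F) : F := x 0 + x 7

/-- The norm. -/
def nm8 (x : Fin 8 → F) : F := x 0 * x 7 - dot3 (zA F x) (zB F x)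

/-- The polar form of the norm. -/
def bl (x y : Fin 8 → F) : F :=
  x 0 * y 7 + x 7 * y 0 - dot3 (zA F x) (zB F y) - dot3 (zA F y) (zB F x)

lemma mul_add_left (x x' y : Fin 8 → F) : zornMul (x + x') y = zornMul x y + zornMul x' y := by
  funext i; fin_cases i <;> simp [zornMul, dot3, cross3, zA, zB] <;> ring

lemma mul_add_right (x y y' : Fin 8 → F) : zornMul x (y + y') = zornMul x y + zornMul x y' := by
  funext i; fin_cases i <;> simp [zornMul, dot3, cross3, zA, zB] <;> ring

lemma mul_smul_left (a : F) (x y : Fin 8 → F) : zornMul (a • x) y = a • zornMul x y := by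
  funext i; fin_cases i <;> simp [zornMul, dot3, cross3, zA, zB] <;> ring

lemma mul_smul_right (a : F) (x y : Fin 8 → F) : zornMul x (a • y) = a • zornMul x y := by
  funext i; fin_cases i <;> simp [zornMul, dot3, cross3, zA, zB] <;> ring

lemma one8_mul (x : Fin 8 → F) : zornMul one8 x = x := by
  funext i; fin_cases i <;> simp [zornMul, one8, pk, dot3, cross3, zA, zB]

lemma mul_one8 (x : Fin 8 → F) : zornMul x one8 = x := by
  funext i; fin_cases i <;> simp [zornMul, one8, pk, dot3, cross3, zA, zB]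

lemma mul_self_eq (x : Fin 8 → F) : zornMul x x = tr8 x • x - nm8 x • one8 := by
  funext i
  fin_cases i <;> simp [zornMul, one8, pk, dot3, cross3, zA, zB, tr8, nm8] <;> ring

lemma nm8_mul (x y : Fin 8 → F) : nm8 (zornMul x y) = nm8 x * nm8 y := by
  simp [zornMul, dot3, cross3, zA, zB, nm8]; ring

lemma tr8_mul (x y : Fin 8 → F) : tr8 (zornMul x y) = tr8 x * tr8 y - bl x y := by
  simp [zornMul, dot3, cross3, zA, zB, tr8, bl]; ring

lemma nm8_add (x y : Fin 8 → F) : nm8 (x + y) = nm8 x + nm8 y + bl x y := by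
  simp [nm8, bl, dot3, zA, zB]; ring

lemma nm8_smul (a : F) (x : Fin 8 → F) : nm8 (a • x) = a ^ 2 * nm8 x := by
  simp [nm8, dot3, zA, zB]; ring

lemma bl_add_left (x x' y : Fin 8 → F) : bl (x + x') y = bl x y + bl x' y := by
  simp [bl, dot3, zA, zB]; ring

lemma bl_smul_left (a : F) (x y : Fin 8 → F) : bl (a • x) y = a * bl x y := by
  simp [bl, dot3, zA, zB]; ring

lemma bl_comm (x y : Fin 8 → F) : bl x y = bl y x := by
  simp [bl, dot3, zA, zB]; ring

lemma bl_one (x : Fin 8 → F) : bl one8 x = tr8 x := by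
  simp [bl, one8, pk, dot3, zA, zB, tr8]; ring

lemma bl_self (x : Fin 8 → F) : bl x x = 2 * nm8 x := by
  simp [bl, dot3, zA, zB, nm8]; ring

lemma tr8_add (x y : Fin 8 → F) : tr8 (x + y) = tr8 x + tr8 y := by
  simp [tr8]; ring

lemma tr8_smul (a : F) (x : Fin 8 → F) : tr8 (a • x) = a * tr8 x := by
  simp [tr8]; ring

lemma tr8_one : tr8 (one8 : Fin 8 → F) = 2 := by
  simp [tr8, one8, pk]; norm_num

lemma nm8_one : nm8 (one8 : Fin 8 → F) = 1 := by
  simp [nm8, one8, pk, dot3, zA, zB]

lemma one8_ne_zero : (one8 : Fin 8 → F) ≠ 0 := fun h => one_ne_zero (congrFun h 0)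

lemma exists_bl_ne {x : Fin 8 → F} (hx : x ≠ 0) : ∃ y, bl x y ≠ 0 := by
  by_contra h
  push Not at h
  apply hx
  have h0 := h (Pi.single 0 1)
  have h1 := h (Pi.single 1 1)
  have h2 := h (Pi.single 2 1)
  have h3 := h (Pi.single 3 1)
  have h4 := h (Pi.single 4 1)
  have h5 := h (Pi.single 5 1)
  have h6 := h (Pi.single 6 1)
  have h7 := h (Pi.single 7 1)
  simp [bl, dot3, zA, zB] at h0 h1 h2 h3 h4 h5 h6 h7
  funext i
  fin_cases i <;> assumption

lemma gap_add (g : G2 F) (x y : Fin 8 → F) : gap g (x + y) = gap g x + gap g y :=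
  Matrix.mulVec_add _ _ _

lemma gap_smul (g : G2 F) (a : F) (x : Fin 8 → F) : gap g (a • x) = a • gap g x :=
  Matrix.mulVec_smul _ _ _

lemma gap_sub (g : G2 F) (x y : Fin 8 → F) : gap g (x - y) = gap g x - gap g y :=
  Matrix.mulVec_sub _ _ _

lemma gap_zero (g : G2 F) : gap g 0 = 0 := Matrix.mulVec_zero _

lemma gap_zornMul (g : G2 F) (x y : Fin 8 → F) :
    gap g (zornMul x y) = zornMul (gap g x) (gap g y) := g.2 x y

lemma gap_one8 (g : G2 F) : gap g one8 = one8 := gap_unit g

lemma gap_inv_gap (g : G2 F) (x : Fin 8 → F) : gap g⁻¹ (gap g x) = x := by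
  rw [← gap_mul, inv_mul_cancel, gap_one]

lemma gap_gap_inv (g : G2 F) (x : Fin 8 → F) : gap g (gap g⁻¹ x) = x := by
  rw [← gap_mul, mul_inv_cancel, gap_one]

lemma tr_nm_gap (g : G2 F) (x : Fin 8 → F) :
    tr8 (gap g x) = tr8 x ∧ nm8 (gap g x) = nm8 x := by
  have h := congrArg (gap g) (mul_self_eq x)
  rw [gap_zornMul, mul_self_eq, gap_sub, gap_smul, gap_smul, gap_one8] at h
  by_cases ht : tr8 (gap g x) = tr8 x
  · refine ⟨ht, ?_⟩
    rw [ht, sub_right_inj] at h
    exact (smul_left_injective F one8_ne_zero) h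
  · have hx : gap g x =
        ((tr8 (gap g x) - tr8 x)⁻¹ * (nm8 (gap g x) - nm8 x)) • one8 := by
      rw [mul_smul, eq_inv_smul_iff₀ (sub_ne_zero.2 ht), sub_smul, sub_smul]
      linear_combination (norm := module) h
    have hx' := congrArg (gap g⁻¹) hx
    rw [gap_inv_gap, gap_smul, gap_one8] at hx'
    exact absurd (by rw [hx]; exact congrArg tr8 hx'.symm) ht

lemma tr8_gap (g : G2 F) (x : Fin 8 → F) : tr8 (gap g x) = tr8 x := (tr_nm_gap g x).1

lemma nm8_gap (g : G2 F) (x : Fin 8 → F) : nm8 (gap g x) = nm8 x := (tr_nm_gap g x).2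

lemma bl_gap (g : G2 F) (x y : Fin 8 → F) : bl (gap g x) (gap g y) = bl x y := by
  have h := nm8_gap g (x + y)
  rw [gap_add, nm8_add, nm8_add, nm8_gap, nm8_gap] at h
  linear_combination h

/-- The difference of the projections to the Peirce spaces of an idempotent. -/
def peirce (e x : Fin 8 → F) : Fin 8 → F := zornMul e x - zornMul (zornMul e x) e

/-- The matrix of `peirce`. -/
noncomputable def peirceMat (e : Fin 8 → F) : Matrix (Fin 8) (Fin 8) F :=
  Matrix.of fun i j => peirce e (Pi.single j 1) i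

lemma peirce_add (e x y : Fin 8 → F) : peirce e (x + y) = peirce e x + peirce e y := by
  rw [peirce, peirce, peirce, mul_add_right, mul_add_left]; abel

lemma peirce_smul (e x : Fin 8 → F) (a : F) : peirce e (a • x) = a • peirce e x := by
  rw [peirce, peirce, mul_smul_right, mul_smul_left, smul_sub]

lemma peirceMat_mulVec (e x : Fin 8 → F) : peirceMat e *ᵥ x = peirce e x := by
  let L : (Fin 8 → F) →ₗ[F] (Fin 8 → F) :=
    { toFun := peirce e, map_add' := peirce_add e, map_smul' := fun a x => peirce_smul e x a }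
  have h : peirceMat e = LinearMap.toMatrix' L := by
    ext i j
    rw [peirceMat, Matrix.of_apply, LinearMap.toMatrix'_apply]
    congr 1
  rw [h, LinearMap.toMatrix'_mulVec]
  rfl

lemma peirceMat_conj (h : G2 F) (e : Fin 8 → F) :
    (h : GL (Fin 8) F).val * peirceMat e = peirceMat (gap h e) * (h : GL (Fin 8) F).val := by
  refine Matrix.ext_of_mulVec_single fun j => ?_
  rw [← Matrix.mulVec_mulVec, ← Matrix.mulVec_mulVec, peirceMat_mulVec, peirceMat_mulVec]
  show gap h _ = _
  rw [peirce, gap_sub, gap_zornMul, gap_zornMul, gap_zornMul]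
  rfl

lemma trace_peirce_conj (g h : G2 F) (e : Fin 8 → F) :
    Matrix.trace ((g : GL (Fin 8) F).val * peirceMat (gap h e)) =
      Matrix.trace (((h⁻¹ * g * h : G2 F) : GL (Fin 8) F).val * peirceMat e) := by
  have hc : peirceMat (gap h e) = (h : GL (Fin 8) F).val * peirceMat e *
      ((h⁻¹ : G2 F) : GL (Fin 8) F).val := by
    rw [peirceMat_conj h e, mul_assoc, ← Units.val_mul, ← Subgroup.coe_mul, mul_inv_cancel,
      OneMemClass.coe_one, Units.val_one, mul_one]
  rw [hc, Subgroup.coe_mul, Subgroup.coe_mul, Units.val_mul, Units.val_mul, ← mul_assoc,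
    ← mul_assoc, Matrix.trace_mul_comm, ← mul_assoc, ← mul_assoc]

/-! ### Extension of scalars -/

section Ext

variable {K : Type*} [Field K] (φ : F →+* K)

lemma map_zornMul (x y : Fin 8 → F) :
    (φ ∘ zornMul x y) = zornMul (φ ∘ x) (φ ∘ y) := by
  funext i; fin_cases i <;> simp [zornMul, dot3, cross3, zA, zB]

lemma map_pk (α : F) (a b : Fin 3 → F) (β : F) :
    (φ ∘ pk α a b β) = pk (φ α) (φ ∘ a) (φ ∘ b) (φ β) := by
  funext i; fin_cases i <;> simp [pk]

lemma mem_G2_of_basis {M : GL (Fin 8) F}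
    (h : ∀ i j, M.val *ᵥ zornMul (Pi.single i 1) (Pi.single j 1) =
      zornMul (M.val *ᵥ Pi.single i 1) (M.val *ᵥ Pi.single j 1)) : M ∈ G2 F := by
  intro x y
  show M.val *ᵥ zornMul x y = zornMul (M.val *ᵥ x) (M.val *ᵥ y)
  let B₁ : (Fin 8 → F) →ₗ[F] (Fin 8 → F) →ₗ[F] (Fin 8 → F) :=
    LinearMap.mk₂ F (fun x y => M.val *ᵥ zornMul x y)
      (fun x x' y => by rw [mul_add_left, Matrix.mulVec_add])
      (fun a x y => by rw [mul_smul_left, Matrix.mulVec_smul])
      (fun x y y' => by rw [mul_add_right, Matrix.mulVec_add])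
      (fun a x y => by rw [mul_smul_right, Matrix.mulVec_smul])
  let B₂ : (Fin 8 → F) →ₗ[F] (Fin 8 → F) →ₗ[F] (Fin 8 → F) :=
    LinearMap.mk₂ F (fun x y => zornMul (M.val *ᵥ x) (M.val *ᵥ y))
      (fun x x' y => by rw [Matrix.mulVec_add, mul_add_left])
      (fun a x y => by rw [Matrix.mulVec_smul, mul_smul_left])
      (fun x y y' => by rw [Matrix.mulVec_add, mul_add_right])
      (fun a x y => by rw [Matrix.mulVec_smul, mul_smul_right])
  have e : B₁ = B₂ := (Pi.basisFun F (Fin 8)).ext fun i => (Pi.basisFun F (Fin 8)).ext fun j => by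
    simpa [B₁, B₂] using h i j
  exact LinearMap.congr_fun (LinearMap.congr_fun e x) y

/-- The extension of scalars. -/
noncomputable def extG : G2 F →* G2 K :=
  ((Matrix.GeneralLinearGroup.map φ).comp (G2 F).subtype).codRestrict (G2 K) fun g => by
    refine mem_G2_of_basis fun i j => ?_
    have hs : ∀ i : Fin 8, (Pi.single i 1 : Fin 8 → K) = φ ∘ (Pi.single i 1 : Fin 8 → F) :=
      fun i => funext fun k => by
        rw [Function.comp_apply, Pi.single_apply, Pi.single_apply]
        split_ifs <;> simp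
    have hm : ∀ v : Fin 8 → F,
        (g : GL (Fin 8) F).val.map φ *ᵥ (φ ∘ v) = φ ∘ gap g v := fun v =>
      funext fun k => (RingHom.map_mulVec φ _ v k).symm
    show (g : GL (Fin 8) F).val.map φ *ᵥ _ = _
    rw [hs, hs, ← map_zornMul, hm, gap_zornMul, map_zornMul, ← hm, ← hm]
    rfl

lemma gap_extG (g : G2 F) (v : Fin 8 → F) : gap (extG φ g) (φ ∘ v) = φ ∘ gap g v :=
  funext fun k => (RingHom.map_mulVec φ _ v k).symm

lemma coe_extG (g : G2 F) :
    ((extG φ g : G2 K) : GL (Fin 8) K).val = (g : GL (Fin 8) F).val.map φ := rfl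

lemma extG_injective : Function.Injective (extG φ) := by
  intro g g' h
  refine Subtype.ext (Units.ext ?_)
  exact Matrix.map_injective φ.injective (congrArg (fun x : G2 K => (x : GL (Fin 8) K).val) h)

lemma map_peirceMat (e : Fin 8 → F) : (peirceMat e).map φ = peirceMat (φ ∘ e) := by
  ext i j
  have hs : (Pi.single j 1 : Fin 8 → K) = φ ∘ (Pi.single j 1 : Fin 8 → F) :=
    funext fun k => by
      rw [Function.comp_apply, Pi.single_apply, Pi.single_apply]
      split_ifs <;> simp
  rw [Matrix.map_apply, peirceMat, peirceMat, Matrix.of_apply, Matrix.of_apply, hs, peirce, peirce,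
    ← map_zornMul, ← map_zornMul, Pi.sub_apply, Pi.sub_apply, map_sub]
  rfl

end Ext

end CfsgLib.GTwoSpec
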