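import Cfsg.Agent.Lib.GTwoSpec.Main

/-!
In odd characteristic no maximal order divides another one.
-/

set_option autoImplicit false

namespace CfsgLib.GTwoSpec

variable {p q : ℕ}

lemma coprime_of_sub_eq (hp : p.Prime) (hpq : p ∣ q) {n : ℕ} (h : n + 1 = q ∨ n = q + 1) :
    ¬ p ∣ n := fun hd => by
  rcases h with h | h
  · exact hp.not_dvd_one ((Nat.dvd_add_right hd).1 (h ▸ hpq))
  · exact hp.not_dvd_one ((Nat.dvd_add_right hpq).1 (h ▸ hd))

theorem antichain (hp : p.Prime) (hp2 : p ≠ 2) (hpq : p ∣ q) (hq : 5 ≤ q) :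
    ∀ T ∈ targets p q, ∀ T' ∈ targets p q, T ∣ T' → T = T' := by
  have hpq' : p ≤ q := Nat.le_of_dvd (by omega) hpq
  obtain ⟨s, hs⟩ : ∃ s, q ^ 2 = s := ⟨_, rfl⟩
  have hsq : 5 * q ≤ s := by rw [← hs, sq]; exact Nat.mul_le_mul_right q hq
  have hps : p ∣ s := hs ▸ hpq.trans (dvd_pow_self q two_ne_zero)
  have nA : ¬ p ∣ q + 1 := coprime_of_sub_eq hp hpq (Or.inr rfl)
  have nB : ¬ p ∣ q - 1 := coprime_of_sub_eq hp hpq (Or.inl (by omega))
  have nC : ¬ p ∣ s - 1 := coprime_of_sub_eq hp hps (Or.inl (by omega))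
  have nD : ¬ p ∣ s + q + 1 := coprime_of_sub_eq hp (hps.add hpq) (Or.inr rfl)
  have nE : ¬ p ∣ s - q + 1 := coprime_of_sub_eq hp (Nat.dvd_sub hps hpq) (Or.inr rfl)
  have small : ∀ {u v : ℕ}, 0 < v → v < u → ¬ u ∣ v := fun h0 hlt h => absurd (Nat.le_of_dvd h0 h) (by omega)
  have cut : ∀ {u v : ℕ}, ¬ p ∣ u → u ∣ p * v → u ∣ v := fun hu h =>
    ((hp.coprime_iff_not_dvd.2 hu).symm).dvd_of_dvd_mul_left h
  have big : ∀ {u : ℕ}, ¬ p ∣ u → 1 < u → ¬ u ∣ p ^ 2 := fun hu h1 h => by
    have := ((hp.coprime_iff_not_dvd.2 hu).symm.pow_right 2).eq_one_of_dvd h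
    omega
  have pn : ∀ {u v : ℕ}, ¬ p ∣ v → ¬ p * u ∣ v := fun hv h => hv ((dvd_mul_right p _).trans h)
  have p2n : ∀ {v : ℕ}, ¬ p ∣ v → ¬ p ^ 2 ∣ v := fun hv h => hv ((dvd_pow_self p two_ne_zero).trans h)
  have p2m : ∀ {v : ℕ}, ¬ p ∣ v → ¬ p ^ 2 ∣ p * v := fun hv h => hv (by
    rw [sq] at h; exact Nat.dvd_of_mul_dvd_mul_left hp.pos h)
  have mp2 : ∀ {u : ℕ}, ¬ p ∣ u → 1 < u → ¬ p * u ∣ p ^ 2 := fun hu h1 h => by
    rw [sq] at h
    rcases hp.eq_one_or_self_of_dvd _ (Nat.dvd_of_mul_dvd_mul_left hp.pos h) with e | e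
    · omega
    · exact hu e.symm.dvd
  have eAB : ¬ q + 1 ∣ q - 1 := small (by omega) (by omega)
  have eBA : ¬ q - 1 ∣ q + 1 := fun h => by
    have := Nat.dvd_sub h (dvd_refl (q - 1))
    rw [show q + 1 - (q - 1) = 2 by omega] at this
    exact small two_pos (by omega) this
  have eCD : ¬ s - 1 ∣ s + q + 1 := fun h => by
    have := Nat.dvd_sub h (dvd_refl (s - 1))
    rw [show s + q + 1 - (s - 1) = q + 2 by omega] at this
    exact small (by omega) (by omega) this
  have eEC : ¬ s - q + 1 ∣ s - 1 := fun h => by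
    have := Nat.dvd_sub h (dvd_refl (s - q + 1))
    rw [show s - 1 - (s - q + 1) = q - 2 by omega] at this
    exact small (by omega) (by omega) this
  have eED : ¬ s - q + 1 ∣ s + q + 1 := fun h => by
    have := Nat.dvd_sub h (dvd_refl (s - q + 1))
    rw [show s + q + 1 - (s - q + 1) = 2 * q by omega] at this
    exact small (by omega) (by omega) this
  intro T hT T' hT'
  simp only [targets, hp2, if_false, Set.union_empty, Set.mem_union, Set.mem_insert_iff,
    Set.mem_singleton_iff, hs, Set.mem_ite_empty_right] at hT hT'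
  rcases hT with (rfl | rfl | rfl | rfl | rfl) | ⟨-, rfl⟩ <;>
    rcases hT' with (rfl | rfl | rfl | rfl | rfl) | ⟨-, rfl⟩ <;> intro h
  · rfl
  · exact absurd (Nat.dvd_of_mul_dvd_mul_left hp.pos h) eAB
  · exact absurd h (pn nC)
  · exact absurd h (pn nD)
  · exact absurd h (pn nE)
  · exact absurd h (mp2 nA (by omega))
  · exact absurd (Nat.dvd_of_mul_dvd_mul_left hp.pos h) eBA
  · rfl
  · exact absurd h (pn nC)
  · exact absurd h (pn nD)
  · exact absurd h (pn nE)
  · exact absurd h (mp2 nB (by omega))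
  · exact absurd (cut nC h) (small (by omega) (by omega))
  · exact absurd (cut nC h) (small (by omega) (by omega))
  · rfl
  · exact absurd h eCD
  · exact absurd h (small (by omega) (by omega))
  · exact absurd h (big nC (by omega))
  · exact absurd (cut nD h) (small (by omega) (by omega))
  · exact absurd (cut nD h) (small (by omega) (by omega))
  · exact absurd h (small (by omega) (by omega))
  · rfl
  · exact absurd h (small (by omega) (by omega))
  · exact absurd h (big nD (by omega))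
  · exact absurd (cut nE h) (small (by omega) (by omega))
  · exact absurd (cut nE h) (small (by omega) (by omega))
  · exact absurd h eEC
  · exact absurd h eED
  · rfl
  · exact absurd h (big nE (by omega))
  · exact absurd h (p2m nA)
  · exact absurd h (p2m nB)
  · exact absurd h (p2n nC)
  · exact absurd h (p2n nD)
  · exact absurd h (p2n nE)
  · rfl

end CfsgLib.GTwoSpec
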