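import Cfsg.Agent.Lib.GTwoSpec.Split

/-!
The bound on element orders of `G₂(q)`.
-/

set_option autoImplicit false

namespace CfsgLib.GTwoSpec

open Cfsg.Lie Cfsg.Agent.GTwoZorn Matrix

variable {F : Type*} [Field F]

lemma idem_of_null {u : Fin 8 → F} (hn : nm8 u = 0) (ht : tr8 u ≠ 0) :
    (tr8 u)⁻¹ • u ∈ Idem F := by
  refine mem_of_sq ?_ (fun h => ?_) (fun h => ?_)
  · rw [mul_smul_left, mul_smul_right, mul_self_eq, hn, zero_smul, sub_zero, smul_smul, smul_smul,
      inv_mul_cancel_right₀ ht]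
  · rcases smul_eq_zero.1 h with h | h
    · exact inv_ne_zero ht h
    · exact ht (by simp [h, tr8])
  · have := congrArg nm8 h
    rw [nm8_smul, hn, mul_zero, ← show (one8 : Fin 8 → F) = pk 1 0 0 1 from rfl, nm8_one] at this
    exact zero_ne_one this

/-- A nonzero fixed null vector yields a fixed idempotent. -/
lemma exists_idem_of_null {s : G2 F} {m : ℕ} (hm : (m : F) ≠ 0) (hs : s ^ m = 1)
    {u : Fin 8 → F} (hu : gap s u = u) (hn : nm8 u = 0) (hu0 : u ≠ 0) :
    ∃ e ∈ Idem F, gap s e = e := by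
  by_cases ht : tr8 u = 0
  swap; · exact ⟨_, idem_of_null hn ht, by rw [gap_smul, hu]⟩
  obtain ⟨w, hw⟩ := exists_bl_ne hu0
  have htuv : tr8 (zornMul u (avg s m w)) ≠ 0 := by
    rw [tr8_mul, ht, zero_mul, zero_sub, neg_ne_zero, bl_avg hu]
    exact mul_ne_zero hm hw
  refine ⟨_, idem_of_null (by rw [nm8_mul, hn, zero_mul]) htuv, ?_⟩
  rw [gap_smul, gap_zornMul, hu, gap_avg hs]

lemma exists_norm_eq [Fintype F] {t n : F} (hD : t ^ 2 - 4 * n ≠ 0) (c : F) :
    ∃ x y : F, x ^ 2 + t * (x * y) + n * y ^ 2 = c := by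
  by_cases h2 : (2 : F) = 0
  · have : CharP F 2 := CharTwo.of_one_ne_zero_of_two_eq_zero one_ne_zero h2
    obtain ⟨x, hx⟩ := FiniteField.isSquare_of_char_two (ringChar.eq F 2) c
    exact ⟨x, 0, by rw [hx]; ring⟩
  have h4 : (4 : F) ≠ 0 := fun h => h2 (pow_eq_zero_iff (n := 2) two_ne_zero |>.1 (by linear_combination h))
  have hodd : Fintype.card F % 2 = 1 := FiniteField.odd_card_of_char_ne_two fun h => h2 (by
    have := CharP.cast_eq_zero F (ringChar F)
    rw [h] at this; exact_mod_cast this)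
  have hd : -((t ^ 2 - 4 * n) / 4) ≠ 0 := neg_ne_zero.2 (div_ne_zero hD h4)
  obtain ⟨u, y, huy⟩ := FiniteField.exists_root_sum_quadratic
    (f := Polynomial.X ^ 2 - Polynomial.C c)
    (g := Polynomial.C (-((t ^ 2 - 4 * n) / 4)) * Polynomial.X ^ 2)
    (Polynomial.degree_X_pow_sub_C two_pos c) (Polynomial.degree_C_mul_X_pow 2 hd) hodd
  simp at huy
  refine ⟨u - t * y / 2, y, ?_⟩
  field_simp at huy ⊢
  linear_combination huy

section Ext

variable {K : Type*} [Field K] (φ : F →+* K)

lemma map_tr8 (x : Fin 8 → F) : tr8 (φ ∘ x) = φ (tr8 x) := by simp [tr8]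

lemma map_nm8 (x : Fin 8 → F) : nm8 (φ ∘ x) = φ (nm8 x) := by simp [nm8, dot3, zA, zB]

lemma map_bl (x y : Fin 8 → F) : bl (φ ∘ x) (φ ∘ y) = φ (bl x y) := by simp [bl, dot3, zA, zB]

lemma comp_add8 (x y : Fin 8 → F) : φ ∘ (x + y) = φ ∘ x + φ ∘ y := funext fun i => map_add φ _ _

lemma comp_sub8 (x y : Fin 8 → F) : φ ∘ (x - y) = φ ∘ x - φ ∘ y := funext fun i => map_sub φ _ _

lemma comp_smul8 (c : F) (x : Fin 8 → F) : φ ∘ (c • x) = φ c • (φ ∘ x) :=
  funext fun i => map_mul φ _ _

lemma comp_one8 : φ ∘ (one8 : Fin 8 → F) = one8 := by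
  funext i; fin_cases i <;> simp [one8, pk]

lemma comp_inj8 {x y : Fin 8 → F} (h : φ ∘ x = φ ∘ y) : x = y :=
  funext fun i => φ.injective (congrFun h i)

lemma comp_zero8 : φ ∘ (0 : Fin 8 → F) = 0 := funext fun i => map_zero φ

end Ext

/-- Elements fixed by the relative Frobenius. -/
lemma mem_range_of_pow_card {K : Type*} [Field K] [Fintype F] (φ : F →+* K) {x : K}
    (hx : x ^ Fintype.card F = x) : ∃ c, φ c = x := by
  classical
  have hq := Fintype.one_lt_card (α := F)
  let f : Polynomial K := Polynomial.X ^ Fintype.card F - Polynomial.X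
  have hf : f ≠ 0 := FiniteField.X_pow_card_sub_X_ne_zero K hq
  by_contra hno
  push Not at hno
  have hsub : insert x (Finset.univ.image φ) ⊆ f.roots.toFinset := by
    intro y hy
    rw [Multiset.mem_toFinset, Polynomial.mem_roots hf]
    rcases Finset.mem_insert.1 hy with rfl | hy
    · simp [f, hx]
    · obtain ⟨c, -, rfl⟩ := Finset.mem_image.1 hy
      simp [f, ← map_pow, FiniteField.pow_card]
  have h1 := (Finset.card_le_card hsub).trans ((Multiset.toFinset_card_le _).trans f.card_roots')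
  rw [Finset.card_insert_of_notMem (by
      simp only [Finset.mem_image, Finset.mem_univ, true_and, not_exists]; exact hno),
    Finset.card_image_of_injective _ φ.injective, Finset.card_univ,
    FiniteField.X_pow_card_sub_X_natDegree_eq K hq] at h1
  omega

section

variable [Fintype F] (p a : ℕ) [Fact p.Prime] [CharP F p] (ha : 1 ≤ a)
  (hF : Fintype.card F = p ^ a) (hq : 3 ≤ Fintype.card F)

include ha hF hq

/-- The case of a fixed quadratic field. -/
theorem good_field {g : G2 F} {k m : ℕ} (hord : orderOf g = p ^ k * m) (hcop : ¬ p ∣ m)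
    (hm : orderOf (g ^ p ^ k) = m) (hm1 : 1 < m) {y : Fin 8 → F} (hy : gap (g ^ p ^ k) y = y)
    (hD : tr8 y ^ 2 - 4 * nm8 y ≠ 0) (hroot : ∀ r : F, r ^ 2 - tr8 y * r + nm8 y ≠ 0) :
    Good p (p ^ a) (orderOf g) := by
  classical
  have hmF : (m : F) ≠ 0 := fun h => hcop ((CharP.cast_eq_zero_iff F p m).1 h)
  set K := FiniteField.Extension F p 2
  let φ : F →+* K := algebraMap F K
  have : CharP K p := charP_of_injective_algebraMap φ.injective p
  have : Fintype K := Fintype.ofFinite K
  let τ : K →+* K := iterateFrobenius K p a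
  have hτ : ∀ x, τ x = x ^ p ^ a := fun x => iterateFrobenius_def p a x
  have hτφ : ∀ c, τ (φ c) = φ c := fun c => by rw [hτ, ← map_pow, ← hF, FiniteField.pow_card]
  have hτ2 : ∀ x, τ (τ x) = x := fun x => by
    rw [hτ, hτ, ← pow_mul, ← sq, ← hF, ← Nat.card_eq_fintype_card,
      ← FiniteField.natCard_extension F p 2, Nat.card_eq_fintype_card, FiniteField.pow_card]
  have hτr : ∀ x, τ x = x → ∃ c, φ c = x := fun x hx =>
    mem_range_of_pow_card φ (by rw [hF, ← hτ, hx])
  obtain ⟨r, hr⟩ := CfsgLib.FormRep.exists_root_of_dvd (L := K)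
    (f := (Polynomial.X ^ 2 - Polynomial.C (tr8 y) * Polynomial.X + Polynomial.C (nm8 y) : Polynomial F))
    (Polynomial.irreducible_of_degree_le_three_of_not_isRoot
      (by rw [show (Polynomial.X ^ 2 - Polynomial.C (tr8 y) * Polynomial.X + Polynomial.C (nm8 y) :
          Polynomial F).natDegree = 2 by compute_degree!]; simp)
      (fun x hx => hroot x (by simpa [Polynomial.IsRoot] using hx)))
    (by rw [show (Polynomial.X ^ 2 - Polynomial.C (tr8 y) * Polynomial.X + Polynomial.C (nm8 y) :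
          Polynomial F).natDegree = 2 by compute_degree!, FiniteField.finrank_extension])
  simp only [map_add, map_sub, map_mul, map_pow, Polynomial.aeval_X, Polynomial.aeval_C] at hr
  change r ^ 2 - φ (tr8 y) * r + φ (nm8 y) = 0 at hr
  set r' := τ r with hr'd
  have hne : r' - r ≠ 0 := fun h => by
    obtain ⟨c, hc⟩ := hτr r (sub_eq_zero.1 h)
    refine hroot c (φ.injective ?_)
    rw [map_add, map_sub, map_mul, map_pow, hc, hr, map_zero]
  have hr' : r' ^ 2 - φ (tr8 y) * r' + φ (nm8 y) = 0 := by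
    have h := congrArg τ hr
    rwa [map_add, map_sub, map_mul, map_pow, hτφ, hτφ, map_zero] at h
  have hsum : r + r' = φ (tr8 y) := by
    have h : (r' - r) * (r + r' - φ (tr8 y)) = 0 := by linear_combination hr' - hr
    exact sub_eq_zero.1 ((mul_eq_zero.1 h).resolve_left hne)
  set G := extG φ g with hG
  set Y := φ ∘ y with hY
  set e := (r' - r)⁻¹ • (Y - r • one8) with hed
  have hτG : ∀ x, τ ∘ gap G x = gap G (τ ∘ x) := fun x => funext fun i => by
    show τ ((((G : GL (Fin 8) K).val) *ᵥ x) i) = _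
    rw [RingHom.map_mulVec]
    refine congrFun (congrArg (fun M => M *ᵥ (τ ∘ x)) ?_) i
    rw [hG, coe_extG, Matrix.map_map]
    ext i j
    exact hτφ _
  have hSY : gap (G ^ p ^ k) Y = Y := by
    rw [hG, ← map_pow, hY, gap_extG, hy]
  have hSe : gap (G ^ p ^ k) e = e := by
    rw [hed, gap_smul, gap_sub, gap_smul, gap_one8, hSY]
  have htY : tr8 Y = φ (tr8 y) := map_tr8 φ y
  have hnY : nm8 Y = φ (nm8 y) := map_nm8 φ y
  have hbY : ∀ c : K, bl Y (c • one8) = c * φ (tr8 y) := fun c => by
    rw [bl_comm, bl_smul_left, bl_one, htY]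
  have hYr : Y - r • one8 = Y + (-r) • one8 := by rw [sub_eq_add_neg, neg_smul]
  have hte : tr8 e = 1 := by
    rw [hed, tr8_smul, hYr, tr8_add, tr8_smul, tr8_one, htY, ← hsum,
      show r + r' + -r * 2 = r' - r by ring, inv_mul_cancel₀ hne]
  have hne' : nm8 e = 0 := by
    rw [hed, nm8_smul, hYr, nm8_add, nm8_smul, nm8_one, hnY, hbY,
      show φ (nm8 y) + (-r) ^ 2 * 1 + -r * φ (tr8 y) = 0 by linear_combination hr, mul_zero]
  have hei : e ∈ Idem K := by
    have := idem_of_null hne' (by rw [hte]; exact one_ne_zero)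
    rwa [hte, inv_one, one_smul] at this
  have hτe : τ ∘ e = one8 - e := by
    rw [hed, comp_smul8, comp_sub8, comp_smul8, comp_one8, map_inv₀, map_sub, ← hr'd, hτ2, hY,
      show τ ∘ (φ ∘ y) = φ ∘ y from funext fun i => hτφ _]
    funext i
    simp only [Pi.smul_apply, Pi.sub_apply, smul_eq_mul]
    rw [show r - r' = -(r' - r) by ring, inv_neg]
    linear_combination one8 i * inv_mul_cancel₀ hne
  have hq2 : 3 ≤ Nat.card K := by
    rw [FiniteField.natCard_extension, Nat.card_eq_fintype_card]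
    exact hq.trans (Nat.le_self_pow two_ne_zero _)
  obtain ⟨h, hh⟩ := inOrb_of_idem hq2 hei
  obtain ⟨ι, hι⟩ := exists_slHom (F := K)
  obtain ⟨A, hA⟩ := stab_eq ι hι (cj h G ^ p ^ k) (by rw [cj_pow]; exact gap_cj_fix hh hSe)
  by_cases hd : ((A : Matrix (Fin 3) (Fin 3) K) - 1).det = 0
  · -- a fixed null vector descends to `F`
    obtain ⟨v, hv0, hv⟩ := Matrix.exists_mulVec_eq_zero_iff.2 hd
    rw [Matrix.sub_mulVec, Matrix.one_mulVec, sub_eq_zero] at hv
    set X0 : Fin 8 → K := pk 0 v 0 0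
    have hX0 : gap (ι A) X0 = X0 := by rw [gap_sl ι hι, hv, Matrix.mulVec_zero]
    set X := gap h X0 with hXd
    have hSX : gap (G ^ p ^ k) X = X := by
      have e1 : G ^ p ^ k = h * ι A * h⁻¹ := by rw [hA, cj_pow, cj]; group
      rw [e1, gap_mul, gap_mul, hXd, gap_inv_gap, hX0]
    have htX : tr8 X = 0 := by rw [hXd, tr8_gap]; simp [X0, tr8, pk]
    have hbX : bl X Y = 0 := by
      have hb0 : bl X e = 0 := by
        rw [hXd, ← hh, bl_gap]; simp [X0, e0, bl, pk, dot3, zA, zB]
      have eY : Y = (r' - r) • e + r • one8 := by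
        rw [hed, smul_smul, mul_inv_cancel₀ hne, one_smul, sub_add_cancel]
      rw [bl_comm]
      calc bl Y X = bl ((r' - r) • e + r • one8) X := congrArg (fun W => bl W X) eY
        _ = 0 := by rw [bl_add_left, bl_smul_left (r' - r) e X, bl_smul_left r one8 X, bl_comm e X, hb0, bl_one, htX]; ring
    have hX : X ≠ 0 := fun h0 => hv0 (by
      have h1 : X0 = 0 := gap_inj h (by rw [← hXd, h0, gap_zero])
      simpa [X0, zA_pk] using (congrArg (zA K) h1).trans (by funext i; fin_cases i <;> simp [zA]))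
    obtain ⟨c, hc⟩ : ∃ c : K, c • X + τ ∘ (c • X) ≠ 0 := by
      by_contra hno
      push Not at hno
      have h1 := hno 1
      rw [one_smul] at h1
      have h2 := hno r
      rw [comp_smul8, eq_neg_of_add_eq_zero_right h1, ← hr'd, smul_neg, ← sub_eq_add_neg,
        ← sub_smul, smul_eq_zero] at h2
      rcases h2 with h2 | h2
      · exact hne (by linear_combination -h2)
      · exact hX h2
    set Z := c • X + τ ∘ (c • X) with hZd
    have hZτ : τ ∘ Z = Z := by
      rw [hZd, comp_add8, add_comm]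
      congr 1
      funext i; exact hτ2 _
    obtain ⟨z, hz⟩ : ∃ z : Fin 8 → F, φ ∘ z = Z := by
      choose z hz using fun i => hτr (Z i) (congrFun hZτ i)
      exact ⟨z, funext hz⟩
    have hτY : τ ∘ Y = Y := funext fun i => hτφ _
    have hsz : gap (g ^ p ^ k) z = z := comp_inj8 φ (by
      rw [← gap_extG, map_pow, ← hG, hz, hZd, gap_add, gap_smul, hSX]
      congr 1
      have e2 : ∀ (n : ℕ) x, τ ∘ gap (G ^ n) x = gap (G ^ n) (τ ∘ x) := by
        intro n
        induction n with
        | zero => intro x; simp [gap_one]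
        | succ n ih => intro x; rw [pow_succ, gap_mul, gap_mul, ih, hτG]
      rw [← e2, gap_smul, hSX])
    have htz : tr8 z = 0 := φ.injective (by
      rw [← map_tr8, hz, hZd, tr8_add, map_tr8, tr8_smul, htX, mul_zero, map_zero, add_zero,
        map_zero])
    have hbz : bl y z = 0 := φ.injective (by
      have e3 : bl (τ ∘ (c • X)) Y = 0 := by
        rw [← hτY, map_bl, bl_smul_left, hbX, mul_zero, map_zero]
      rw [← map_bl, hz, ← hY, bl_comm, hZd, bl_add_left, bl_smul_left, hbX, e3, mul_zero, add_zero,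
        map_zero])
    have hz0 : z ≠ 0 := fun h0 => hc (by rw [← hz, h0, comp_zero8])
    obtain ⟨α, β, hαβ⟩ := exists_norm_eq hD (-nm8 z)
    set u := α • one8 + β • y + z with hud
    have hu : gap (g ^ p ^ k) u = u := by
      rw [hud, gap_add, gap_add, gap_smul, gap_smul, gap_one8, hy, hsz]
    have hun : nm8 u = 0 := by
      have e4 : bl (one8 : Fin 8 → F) z = 0 := by rw [bl_one, htz]
      rw [hud, nm8_add, nm8_add, nm8_smul, nm8_smul, nm8_one, bl_add_left, bl_smul_left,
        bl_smul_left, bl_smul_left, e4, hbz, bl_one, tr8_smul]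
      linear_combination hαβ
    have hu0 : u ≠ 0 := fun h0 => by
      have ht : 2 * α + β * tr8 y = 0 := by
        have h1 := congrArg tr8 h0
        rw [hud, tr8_add, tr8_add, tr8_smul, tr8_smul, tr8_one, htz] at h1
        simp [tr8] at h1
        simp only [tr8]
        linear_combination h1
      have hb : α * tr8 y + β * (2 * nm8 y) = 0 := by
        have h1 : bl u y = 0 := by rw [h0]; simp [bl, dot3, zA, zB]
        rw [hud, bl_add_left, bl_add_left, bl_smul_left, bl_smul_left, bl_one, bl_self, bl_comm z,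
          hbz] at h1
        linear_combination h1
      have hβ : β = 0 := (mul_eq_zero.1 (show (tr8 y ^ 2 - 4 * nm8 y) * β = 0 by
        linear_combination tr8 y * ht - 2 * hb)).resolve_left hD
      have hα : α = 0 := by
        rw [hβ] at ht hb
        by_contra hα
        have h2 : (2 : F) = 0 := (mul_eq_zero.1 (show 2 * α = 0 by linear_combination ht)).resolve_right hα
        have h3 : tr8 y = 0 := (mul_eq_zero.1 (show α * tr8 y = 0 by linear_combination hb)).resolve_left hα
        exact hD (by linear_combination (tr8 y) * h3 - 2 * nm8 y * h2)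
      exact hz0 (by rw [← h0, hud, hα, hβ, zero_smul, zero_smul, zero_add, zero_add])
    obtain ⟨e', he', hse'⟩ := exists_idem_of_null (s := g ^ p ^ k) hmF
      (by rw [← hm]; exact pow_orderOf_eq_one _) hu hun hu0
    exact good_fix_idem p a ha hF hq hord hcop hm hm1 he' hse'
  have hfix := fix_e0_of_det ι hι hd (hA ▸ (Commute.refl (cj h G)).pow_right _ : Commute (cj h G) (ι A))
  obtain ⟨B, hB⟩ := stab_eq ι hι (cj h G) hfix
  have hmapG : (G : GL (Fin 8) K).val.map τ = (G : GL (Fin 8) K).val := by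
    rw [hG, coe_extG, Matrix.map_map]; ext i j; exact hτφ _
  have hB0 : (B : Matrix (Fin 3) (Fin 3) K).trace =
      Matrix.trace ((G : GL (Fin 8) K).val * peirceMat e) := by
    rw [← trace_peirce_e0 ι hι, hB, ← hh, trace_peirce_conj]; rfl
  have hB1 : (B : Matrix (Fin 3) (Fin 3) K).adjugate.trace =
      Matrix.trace ((G : GL (Fin 8) K).val * peirceMat (one8 - e)) := by
    rw [← trace_peirce_e1 ι hι, hB, ← hh, show one8 - gap h e0 = gap h e1 by
      rw [e1_eq, gap_sub, gap_one8], trace_peirce_conj]; rfl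
  have hτT : ∀ x, τ (Matrix.trace ((G : GL (Fin 8) K).val * peirceMat x)) =
      Matrix.trace ((G : GL (Fin 8) K).val * peirceMat (τ ∘ x)) := fun x => by
    rw [AddMonoidHom.map_trace τ, Matrix.map_mul, hmapG, map_peirceMat]
  have hgood := good_sl (F := K) p a ha B (Or.inr ⟨by rw [← hτ, hB0, hτT, hτe, hB1], by
    rw [← hτ, hB1, hτT, comp_sub8, comp_one8, hτe, sub_sub_cancel, hB0]⟩)
  refine hgood.of_dvd ?_
  rw [← orderOf_injective (extG φ) (extG_injective φ) g, ← hG, ← orderOf_cj h G, ← hB]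
  exact orderOf_map_dvd ι B

/-- The orders of the elements of `G₂(q)`. -/
theorem good_orderOf (g : G2 F) : Good p (p ^ a) (orderOf g) := by
  have hp : p.Prime := Fact.out
  have hn : orderOf g ≠ 0 := (orderOf_pos g).ne'
  obtain ⟨k, m, hcop, hord⟩ := Nat.exists_eq_pow_mul_and_not_dvd hn p hp.ne_one
  have hm : orderOf (g ^ p ^ k) = m := by
    rw [orderOf_pow' g (pow_ne_zero _ hp.ne_zero), hord,
      Nat.gcd_eq_right (dvd_mul_right _ _), Nat.mul_div_cancel_left _ (pow_pos hp.pos _)]
  by_cases hm1 : m = 1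
  · exact good_of_unipotent p (k := k) g (orderOf_dvd_iff_pow_eq_one.1 (by rw [hord, hm1, mul_one]))
  have hm1' : 1 < m := by
    have : m ≠ 0 := fun h => hn (by rw [hord, h, mul_zero])
    omega
  have hmF : (m : F) ≠ 0 := fun h => hcop ((CharP.cast_eq_zero_iff F p m).1 h)
  obtain ⟨y, hy, hD⟩ := exists_fix_sep hq hmF
    (show (g ^ p ^ k) ^ m = 1 by rw [← hm]; exact pow_orderOf_eq_one _)
  by_cases hroot : ∀ r : F, r ^ 2 - tr8 y * r + nm8 y ≠ 0
  · exact good_field p a ha hF hq hord hcop hm hm1' hy hD hroot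
  push Not at hroot
  obtain ⟨r, hr⟩ := hroot
  set r' := tr8 y - r with hr'
  have hne : r' - r ≠ 0 := fun h => hD (by rw [hr'] at h; linear_combination (tr8 y - 2 * r) * h - 4 * hr)
  set w := y + (-r) • one8 with hw
  have hnw : nm8 w = 0 := by
    rw [hw, nm8_add, nm8_smul, nm8_one, bl_comm, bl_smul_left, bl_one]; linear_combination hr
  have htw : tr8 w ≠ 0 := by
    rw [hw, tr8_add, tr8_smul, tr8_one]
    rwa [show tr8 y + -r * 2 = r' - r by rw [hr']; ring]
  exact good_fix_idem p a ha hF hq hord hcop hm hm1' (idem_of_null hnw htw)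
    (by rw [gap_smul, hw, gap_add, gap_smul, gap_one8, hy])

end

end CfsgLib.GTwoSpec
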