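import Cfsg.Agent.Lib.GTwoSpec.Fix

/-!
Elements of `G₂(q)` whose semisimple part fixes a rational idempotent.
-/

set_option autoImplicit false

namespace CfsgLib.GTwoSpec

open Cfsg.Lie Cfsg.Agent.GTwoZorn Matrix

variable {F : Type*} [Field F]

local notation "SL3" => Matrix.SpecialLinearGroup (Fin 3)

/-- The second idempotent. -/
def e1 : Fin 8 → F := pk 0 0 0 1

lemma gap_ext {g h : G2 F} (H : ∀ x, gap g x = gap h x) : g = h :=
  Subtype.ext (Units.ext (Matrix.ext_iff_mulVec.mpr H))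

/-- Conjugation. -/
def cj (h g : G2 F) : G2 F := h⁻¹ * g * h

lemma cj_eq (h g : G2 F) : cj h g = MulAut.conj h⁻¹ g := by rw [cj, MulAut.conj_apply, inv_inv]

lemma cj_pow (h g : G2 F) (n : ℕ) : cj h g ^ n = cj h (g ^ n) := by rw [cj_eq, cj_eq, map_pow]

lemma orderOf_cj (h g : G2 F) : orderOf (cj h g) = orderOf g := by
  rw [cj_eq]; exact MulEquiv.orderOf_eq _ _

lemma gap_cj_fix {h g : G2 F} {x y : Fin 8 → F} (hx : gap h x = y) (hy : gap g y = y) :
    gap (cj h g) x = x := by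
  rw [cj, gap_mul, gap_mul, hx, hy, ← hx, gap_inv_gap]

lemma gap_comm {g s : G2 F} (hc : Commute g s) {x : Fin 8 → F} (hx : gap s x = x) :
    gap s (gap g x) = gap g x := by
  rw [← gap_mul, ← hc.eq, gap_mul, hx]

lemma peirce_e0 (x : Fin 8 → F) : peirce e0 x = pk 0 (zA F x) 0 0 := by
  conv_lhs => rw [← pk_eta x, peirce, e0, pk_mul, pk_mul]
  funext i; fin_cases i <;> simp [pk, dot3, cross3]

lemma peirce_e1 (x : Fin 8 → F) : peirce e1 x = pk 0 0 (zB F x) 0 := by
  conv_lhs => rw [← pk_eta x, peirce, e1, pk_mul, pk_mul]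
  funext i; fin_cases i <;> simp [pk, dot3, cross3]

lemma idem_e0 : (e0 : Fin 8 → F) ∈ Idem F := e0_mem

lemma e1_eq : (e1 : Fin 8 → F) = one8 - e0 := by
  funext i; fin_cases i <;> simp [e1, one8, e0, pk]

lemma det_sub_one3 (A : Matrix (Fin 3) (Fin 3) F) :
    (A - 1).det = A.det - A.adjugate.trace + A.trace - 1 := by
  rw [Matrix.det_fin_three, Matrix.det_fin_three, Matrix.trace_fin_three, Matrix.trace_fin_three,
    Matrix.adjugate_fin_three]
  simp
  ring

section

variable (ι : SL3 F →* G2 F)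
  (hι : ∀ A α a b β, ((ι A : GL (Fin 8) F) : Matrix (Fin 8) (Fin 8) F) *ᵥ pk α a b β =
      pk α ((A : Matrix (Fin 3) (Fin 3) F) *ᵥ a) ((A : Matrix (Fin 3) (Fin 3) F).adjugateᵀ *ᵥ b) β)

include hι

lemma sl_inj : Function.Injective ι := (injective_iff_map_eq_one ι).2 fun A hA => by
  refine Subtype.ext (Matrix.ext_iff_mulVec.mpr fun a => ?_)
  have h := gap_sl ι hι A 0 a 0 0
  rw [hA, gap_one, pk_inj] at h
  rw [← h.2.1]; simp

lemma gap_sl_e0 (A : SL3 F) : gap (ι A) e0 = e0 := by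
  rw [e0, gap_sl ι hι, Matrix.mulVec_zero, Matrix.mulVec_zero]

lemma gap_sl_fix (A : SL3 F) (x : Fin 8 → F) :
    gap (ι A) x = x ↔ (A : Matrix (Fin 3) (Fin 3) F) *ᵥ zA F x = zA F x ∧
      (A : Matrix (Fin 3) (Fin 3) F).adjugateᵀ *ᵥ zB F x = zB F x := by
  conv_lhs => rw [← pk_eta x, gap_sl ι hι, pk_inj]
  simp

lemma trace_peirce_e0 (A : SL3 F) :
    Matrix.trace ((ι A : GL (Fin 8) F).val * peirceMat e0) =
      Matrix.trace (A : Matrix (Fin 3) (Fin 3) F) := by
  have h : ∀ x, ((ι A : GL (Fin 8) F).val * peirceMat e0) *ᵥ x =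
      pk 0 ((A : Matrix (Fin 3) (Fin 3) F) *ᵥ zA F x) 0 0 := fun x => by
    rw [← Matrix.mulVec_mulVec, peirceMat_mulVec, peirce_e0, hι, Matrix.mulVec_zero]
  have hd : ∀ j, ((ι A : GL (Fin 8) F).val * peirceMat e0 : Matrix (Fin 8) (Fin 8) F) j j =
      pk 0 ((A : Matrix (Fin 3) (Fin 3) F) *ᵥ zA F (Pi.single j 1)) 0 0 j := fun j => by
    rw [← h, Matrix.mulVec_single_one]; rfl
  rw [Matrix.trace, Matrix.trace_fin_three]
  simp only [Matrix.diag_apply, hd, Fin.sum_univ_eight]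
  simp [pk, zA, Matrix.mulVec, dotProduct, Fin.sum_univ_three]

lemma trace_peirce_e1 (A : SL3 F) :
    Matrix.trace ((ι A : GL (Fin 8) F).val * peirceMat e1) =
      Matrix.trace (A : Matrix (Fin 3) (Fin 3) F).adjugate := by
  have h : ∀ x, ((ι A : GL (Fin 8) F).val * peirceMat e1) *ᵥ x =
      pk 0 0 ((A : Matrix (Fin 3) (Fin 3) F).adjugateᵀ *ᵥ zB F x) 0 := fun x => by
    rw [← Matrix.mulVec_mulVec, peirceMat_mulVec, peirce_e1, hι, Matrix.mulVec_zero]
  have hd : ∀ j, ((ι A : GL (Fin 8) F).val * peirceMat e1 : Matrix (Fin 8) (Fin 8) F) j j =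
      pk 0 0 ((A : Matrix (Fin 3) (Fin 3) F).adjugateᵀ *ᵥ zB F (Pi.single j 1)) 0 j := fun j => by
    rw [← h, Matrix.mulVec_single_one]; rfl
  rw [← Matrix.trace_transpose (A : Matrix (Fin 3) (Fin 3) F).adjugate, Matrix.trace,
    Matrix.trace_fin_three]
  simp only [Matrix.diag_apply, hd, Fin.sum_univ_eight]
  simp [pk, zB, Matrix.mulVec, dotProduct, Fin.sum_univ_three]

/-- If `A` has no eigenvalue one, an element commuting with it cannot interchange the idempotents. -/
lemma fix_e0_of_det {A : SL3 F} (hA : ((A : Matrix (Fin 3) (Fin 3) F) - 1).det ≠ 0) {g : G2 F}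
    (hc : Commute g (ι A)) : gap g e0 = e0 := by
  have hx := gap_mem g (idem_e0 (F := F))
  have hs := gap_comm hc (gap_sl_e0 ι hι A)
  set x := gap g e0 with hxd
  rw [gap_sl_fix ι hι] at hs
  have inj : ∀ (B : Matrix (Fin 3) (Fin 3) F), (B - 1).det ≠ 0 → ∀ v, B *ᵥ v = v → v = 0 :=
    fun B hB v hv => Matrix.eq_zero_of_mulVec_eq_zero hB (by
      rw [Matrix.sub_mulVec, Matrix.one_mulVec, hv, sub_self])
  have ha : zA F x = 0 := inj _ hA _ hs.1
  have hb : zB F x = 0 := by
    refine inj _ hA _ ?_ |> fun h => h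
    have h1 := congrArg (fun v => ((A : Matrix (Fin 3) (Fin 3) F))ᵀ *ᵥ v) hs.2
    simp only [Matrix.mulVec_mulVec] at h1
    rw [← Matrix.transpose_mul, Matrix.adjugate_mul, A.2, one_smul, Matrix.transpose_one,
      Matrix.one_mulVec] at h1
    exact (inj _ (by rw [← Matrix.transpose_one, ← Matrix.transpose_sub, Matrix.det_transpose]; exact hA)
      _ h1.symm) ▸ Matrix.mulVec_zero _
  obtain ⟨h7, hd⟩ := hx
  rw [ha, hb] at hd
  simp [dot3] at hd
  rcases mul_eq_zero.1 (show x 0 * (1 - x 0) = 0 by linear_combination -hd) with h | h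
  · exfalso
    have hxe : x = e1 := by rw [← pk_eta x, ha, hb, h7, h]; simp [e1]
    have e := trace_peirce_conj (ι A) g e0
    have hg1 : g⁻¹ * ι A * g = ι A := by rw [mul_assoc, ← hc.eq, inv_mul_cancel_left]
    rw [← hxd, hxe, hg1, trace_peirce_e0 ι hι, trace_peirce_e1 ι hι] at e
    exact hA (by rw [det_sub_one3, A.2, e]; ring)
  · rw [← pk_eta x, ha, hb, h7, h]
    rw [show x 0 = 1 from (sub_eq_zero.1 h).symm]
    rfl

end

theorem good_sl (p k : ℕ) [Fact p.Prime] [CharP F p] (hk : 1 ≤ k) (B : SL3 F)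
    (h : ((B : Matrix (Fin 3) (Fin 3) F).trace ^ p ^ k = (B : Matrix (Fin 3) (Fin 3) F).trace ∧
        (B : Matrix (Fin 3) (Fin 3) F).adjugate.trace ^ p ^ k =
          (B : Matrix (Fin 3) (Fin 3) F).adjugate.trace) ∨
      ((B : Matrix (Fin 3) (Fin 3) F).trace ^ p ^ k = (B : Matrix (Fin 3) (Fin 3) F).adjugate.trace ∧
        (B : Matrix (Fin 3) (Fin 3) F).adjugate.trace ^ p ^ k =
          (B : Matrix (Fin 3) (Fin 3) F).trace)) :
    Good p (p ^ k) (orderOf B) := by
  let φ := algebraMap F (AlgebraicClosure F)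
  have : CharP (AlgebraicClosure F) p := charP_of_injective_algebraMap φ.injective p
  let f : SL3 F →* Matrix (Fin 3) (Fin 3) (AlgebraicClosure F) :=
    { toFun := fun A => (A : Matrix (Fin 3) (Fin 3) F).map φ
      map_one' := by simp
      map_mul' := fun A B => by rw [Matrix.SpecialLinearGroup.coe_mul, Matrix.map_mul] }
  have hf : Function.Injective f := fun A B h =>
    Subtype.ext (Matrix.map_injective φ.injective h)
  have htr : ∀ M : Matrix (Fin 3) (Fin 3) F, (M.map φ).trace = φ M.trace := fun M => by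
    simp [Matrix.trace_fin_three]
  rw [← orderOf_injective f hf]
  refine sl3_bound p k hk _ ?_ ?_
  · show (φ.mapMatrix (B : Matrix (Fin 3) (Fin 3) F)).det = 1
    rw [← RingHom.map_det, B.2, map_one]
  · show _ ∨ _
    have ha : (f B).adjugate = (B : Matrix (Fin 3) (Fin 3) F).adjugate.map φ :=
      (RingHom.map_adjugate φ _).symm
    rw [ha, show f B = (B : Matrix (Fin 3) (Fin 3) F).map φ from rfl, htr, htr, ← map_pow, ← map_pow]
    rcases h with ⟨a, b⟩ | ⟨a, b⟩
    · exact Or.inl ⟨by rw [a], by rw [b]⟩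
    · exact Or.inr ⟨by rw [a], by rw [b]⟩

/-- Element orders of `GL₂(q)`. -/
theorem gl2_bound [Fintype F] (p a : ℕ) [Fact p.Prime] [CharP F p] (ha : 1 ≤ a)
    (hF : Fintype.card F = p ^ a) (M : Matrix (Fin 2) (Fin 2) F) (hM : M.det ≠ 0) :
    M ^ (p * ((p ^ a) ^ 2 - 1)) = 1 ∧
      (M.det = 1 → M ^ (p * (p ^ a - 1)) = 1 ∨ M ^ (p * (p ^ a + 1)) = 1) := by
  set q := p ^ a with hqd
  have hp := (Fact.out : p.Prime).two_le
  have hq : 2 ≤ q := hp.trans (Nat.le_self_pow (by omega) p)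
  let L := AlgebraicClosure F
  let φ := algebraMap F L
  have : CharP L p := charP_of_injective_algebraMap φ.injective p
  have hfix : ∀ x : F, φ x ^ q = φ x := fun x => by rw [← map_pow, ← hF, FiniteField.pow_card]
  let t := φ M.trace
  let d := φ M.det
  obtain ⟨r, hr⟩ := IsAlgClosed.exists_root
    (Polynomial.X ^ 2 - Polynomial.C t * Polynomial.X + Polynomial.C d : Polynomial L)
    (by rw [show (Polynomial.X ^ 2 - Polynomial.C t * Polynomial.X + Polynomial.C d : Polynomial L).degree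
      = 2 by compute_degree!]; norm_num)
  simp [Polynomial.IsRoot] at hr
  have hd : d ≠ 0 := by
    intro h
    exact hM (φ.injective (h.trans (map_zero φ).symm))
  set r' := t - r with hr'
  have hprod : r * r' = d := by rw [hr']; linear_combination -hr
  have hrt : (r ^ q) ^ 2 - t * r ^ q + d = 0 := by
    have h := congrArg (iterateFrobenius L p a) hr
    simp only [map_add, map_sub, map_mul, map_pow, map_zero, iterateFrobenius_def, ← hqd] at h
    rw [show t ^ q = t from hfix _, show d ^ q = d from hfix _] at h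
    exact h
  have hcases : r ^ q = r ∨ r ^ q = r' := by
    rcases mul_eq_zero.1 (show (r ^ q - r) * (r ^ q - r') = 0 by
      rw [hr'] at hprod ⊢; linear_combination hrt + hprod) with h | h
    · exact Or.inl (sub_eq_zero.1 h)
    · exact Or.inr (sub_eq_zero.1 h)
  have hr0 : r ≠ 0 := fun h => hd (by rw [← hprod, h, zero_mul])
  have hr'q : r ^ q = r → r' ^ q = r' := fun h => by
    have e : (r * r') ^ q = r * r' := by rw [hprod]; exact hfix _
    rw [mul_pow, h] at e
    exact mul_left_cancel₀ hr0 e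
  have hswap : r ^ q = r' → r' ^ q = r := fun h => by
    have e : (r * r') ^ q = r * r' := by rw [hprod]; exact hfix _
    rw [mul_pow, h, mul_comm r] at e
    exact mul_left_cancel₀ (fun h0 => hd (by rw [← hprod, h0, mul_zero])) e
  have main : ∀ N, r ^ N = 1 → r' ^ N = 1 → M ^ (p * N) = 1 := by
    intro N h1 h2
    have hdvd : (M.charpoly.map φ) ∣ Polynomial.X ^ (N * p) - 1 := by
      have hc : M.charpoly.map φ = (Polynomial.X - Polynomial.C r) * (Polynomial.X - Polynomial.C r') := by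
        rw [Matrix.charpoly_fin_two, Polynomial.map_add, Polynomial.map_sub, Polynomial.map_pow,
          Polynomial.map_X, Polynomial.map_mul, Polynomial.map_C, Polynomial.map_C, Polynomial.map_X,
          show φ M.trace = t from rfl, show φ M.det = d from rfl, ← hprod, hr']
        simp only [map_sub, map_mul]; ring
      rw [hc, pow_mul, show ((Polynomial.X ^ N) ^ p - 1 : Polynomial L) = (Polynomial.X ^ N - 1) ^ p by
        rw [sub_pow_char, one_pow]]
      exact ((mul_dvd_mul (X_sub_dvd h1) (X_sub_dvd h2)).trans (dvd_of_eq (sq _).symm)).trans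
        (pow_dvd_pow _ hp)
    rw [show Polynomial.X ^ (N * p) - 1 = (Polynomial.X ^ (N * p) - 1 : Polynomial F).map φ by simp,
      Polynomial.map_dvd_map' φ] at hdvd
    obtain ⟨R, hR⟩ := hdvd
    have e := congrArg (Polynomial.aeval M) hR
    rw [map_mul, Matrix.aeval_self_charpoly, zero_mul, map_sub, map_pow, Polynomial.aeval_X, map_one,
      sub_eq_zero] at e
    rwa [mul_comm]
  have hq1 : ∀ x : L, x ≠ 0 → x ^ q = x → x ^ (q - 1) = 1 := fun x hx h =>
    mul_left_cancel₀ hx (by rw [← pow_succ', Nat.sub_add_cancel (by omega), h, mul_one])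
  have hr'0 : r' ≠ 0 := fun h => hd (by rw [← hprod, h, mul_zero])
  have hq2 : ∀ x : L, x ≠ 0 → (x ^ q) ^ q = x → x ^ (q ^ 2 - 1) = 1 := fun x hx h =>
    mul_left_cancel₀ hx (by
      rw [← pow_succ', Nat.sub_add_cancel (Nat.one_le_pow _ _ (by omega)), sq, pow_mul, h, mul_one])
  refine ⟨main _ (hq2 r hr0 ?_) (hq2 r' hr'0 ?_), fun h1 => ?_⟩
  · rcases hcases with h | h
    · rw [h, h]
    · rw [h, hswap h]
  · rcases hcases with h | h
    · rw [hr'q h, hr'q h]
    · rw [hswap h, h]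
  rcases hcases with h | h
  · exact Or.inl (main _ (hq1 r hr0 h) (hq1 r' hr'0 (hr'q h)))
  · refine Or.inr (main _ ?_ ?_)
    · rw [pow_succ', h, hprod]; show φ M.det = 1; rw [h1, map_one]
    · rw [pow_succ', hswap h, mul_comm, hprod]; show φ M.det = 1; rw [h1, map_one]

lemma good_arith {p q n k m : ℕ} (hp : p.Prime) (hn : n = p ^ k * m) (hcop : ¬ p ∣ m) (hpq : p ∣ q)
    (hq : 2 ≤ q) (h1 : n ∣ p * (q ^ 2 - 1)) (h2 : m ∣ p * (q - 1) ∨ m ∣ p * (q + 1)) :
    Good p q n := by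
  have hc : Nat.Coprime (p ^ k) (q ^ 2 - 1) := by
    refine Nat.Coprime.pow_left k ((hp.coprime_iff_not_dvd).2 fun h => ?_)
    have h' : p ∣ q ^ 2 := hpq.trans (dvd_pow_self q two_ne_zero)
    have h1' : 1 ≤ q ^ 2 := Nat.one_le_pow _ _ (by omega)
    have := Nat.dvd_sub h' h
    rw [Nat.sub_sub_self h1'] at this
    exact hp.not_dvd_one this
  have hk : p ^ k ∣ p := hc.dvd_of_dvd_mul_right ((Dvd.intro m hn.symm).trans h1)
  have hm : Nat.Coprime m p := ((hp.coprime_iff_not_dvd).2 hcop).symm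
  rcases h2 with h2 | h2
  · exact Or.inr (Or.inl (hn ▸ mul_dvd_mul hk (hm.dvd_of_dvd_mul_left h2)))
  · exact Or.inl (hn ▸ mul_dvd_mul hk (hm.dvd_of_dvd_mul_left h2))

section

variable [Fintype F] (p a : ℕ) [Fact p.Prime] [CharP F p] (ha : 1 ≤ a)
  (hF : Fintype.card F = p ^ a)

include ha hF

/-- The case of the semisimple part `[1] ⊕ A₂` with `A₂` without eigenvalue one. -/
theorem good_block {g : G2 F} {k m : ℕ} (hord : orderOf g = p ^ k * m) (hcop : ¬ p ∣ m)
    (hm : orderOf (g ^ p ^ k) = m) (ι : SL3 F →* G2 F)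
    (hι : ∀ A α a b β, ((ι A : GL (Fin 8) F) : Matrix (Fin 8) (Fin 8) F) *ᵥ pk α a b β =
      pk α ((A : Matrix (Fin 3) (Fin 3) F) *ᵥ a) ((A : Matrix (Fin 3) (Fin 3) F).adjugateᵀ *ᵥ b) β)
    (A : SL3 F) (u v w z : F) (hA : (A : Matrix (Fin 3) (Fin 3) F) = !![1, 0, 0; 0, u, v; 0, w, z])
    (hδ : (u - 1) * (z - 1) - v * w ≠ 0) (hgA : g ^ p ^ k = ι A) :
    Good p (p ^ a) (orderOf g) := by
  have hdetA : u * z - v * w = 1 := by
    have := A.2; rw [hA] at this; simp [Matrix.det_fin_three] at this; linear_combination this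
  have hc : Commute g (ι A) := hgA ▸ (Commute.refl g).pow_right _
  have sys : ∀ x y : F, u * x + v * y = x → w * x + z * y = y → x = 0 ∧ y = 0 := fun x y h1 h2 =>
    ⟨(mul_eq_zero.1 (show ((u - 1) * (z - 1) - v * w) * x = 0 by
        linear_combination (z - 1) * h1 - v * h2)).resolve_left hδ,
      (mul_eq_zero.1 (show ((u - 1) * (z - 1) - v * w) * y = 0 by
        linear_combination (u - 1) * h2 - w * h1)).resolve_left hδ⟩
  have hadjT : (A : Matrix (Fin 3) (Fin 3) F).adjugateᵀ = !![1, 0, 0; 0, z, -w; 0, -v, u] := by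
    rw [hA, Matrix.adjugate_fin_three]
    ext i j; fin_cases i <;> fin_cases j <;> simp
    linear_combination hdetA
  -- the image of the idempotent lies in the quaternion part
  obtain ⟨f, hf⟩ := exists_pairHom (F := F)
  have hx := gap_mem g (idem_e0 (F := F))
  have hs := gap_comm hc (gap_sl_e0 ι hι A)
  set x := gap g e0 with hxd
  rw [gap_sl_fix ι hι, hadjT, hA] at hs
  obtain ⟨hsA, hsB⟩ := hs
  have a1 := congrFun hsA 1; have a2 := congrFun hsA 2
  have b1 := congrFun hsB 1; have b2 := congrFun hsB 2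
  simp [Matrix.mulVec, dotProduct, Fin.sum_univ_three, zA, zB] at a1 a2 b1 b2
  obtain ⟨hx2, hx3⟩ := sys _ _ a1 a2
  obtain ⟨hx6, hx5⟩ := sys (x 6) (-(x 5)) (by linear_combination b2) (by linear_combination -b1)
  have hx5' : x 5 = 0 := neg_eq_zero.1 hx5
  obtain ⟨h7, hd⟩ := hx
  have hd' : x 1 * x 4 = x 0 - x 0 ^ 2 := by simpa [dot3, zA, zB, hx2, hx3] using hd
  obtain ⟨c, hc1, hc2⟩ : ∃ c : Matrix (Fin 2) (Fin 2) F, c.det = 1 ∧
      toM x * c = c * !![1, 0; 0, 0] := by
    by_cases h0 : x 0 = 0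
    · have h14 : x 1 * x 4 = 0 := by rw [hd', h0]; simp
      refine ⟨!![x 1, -1; 1, x 4], ?_, ?_⟩
      · rw [Matrix.det_fin_two_of, h14]; ring
      · ext i j
        fin_cases i <;> fin_cases j <;> simp [toM, Matrix.mul_apply, h0, h7]
        all_goals first
          | linear_combination h14
          | linear_combination -h14
          | exact mul_eq_zero.1 h14
          | exact (mul_eq_zero.1 h14).symm
    · refine ⟨!![x 0, -x 1 / x 0; x 4, 1], ?_, ?_⟩
      · rw [Matrix.det_fin_two_of]; field_simp; linear_combination hd'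
      · ext i j
        fin_cases i <;> fin_cases j <;> simp [toM, Matrix.mul_apply, h7]
        · linear_combination hd'
        · field_simp; ring
        · ring
        · field_simp; linear_combination -hd'
  let cu : GL (Fin 2) F := Matrix.GeneralLinearGroup.mkOfDetNeZero c (hc1 ▸ one_ne_zero)
  have hcu : (cu : Matrix (Fin 2) (Fin 2) F) = c := rfl
  let A2 : Matrix (Fin 2) (Fin 2) F := !![u, v; w, z]
  have hA2 : A2.det = 1 := by rw [Matrix.det_fin_two_of]; exact hdetA
  let au : GL (Fin 2) F := Matrix.GeneralLinearGroup.mkOfDetNeZero A2 (hA2 ▸ one_ne_zero)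
  have hau : (au : Matrix (Fin 2) (Fin 2) F) = A2 := rfl
  let P1 : Pairs F := ⟨(cu, 1), mem_Pairs.2 (Units.ext (by simp [hcu, hc1]))⟩
  let PA : Pairs F := ⟨(1, au), mem_Pairs.2 (Units.ext (by simp [hau, hA2]))⟩
  have hιA : ι A = f PA := by
    refine gap_ext fun y => ext_MW ?_ ?_
    · show _ = toM (gap (f PA) y)
      rw [show toM (gap (f PA) y) = _ from (hf PA y).1]
      conv_lhs => rw [← pk_eta y, gap_sl ι hι, toM_pk, hadjT, hA]
      simp only [PA, Units.val_one, inv_one, one_mul, mul_one]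
      ext i j; fin_cases i <;> fin_cases j <;> simp [toM, Matrix.mulVec, dotProduct, Fin.sum_univ_three, zA, zB]
    · show _ = toW (gap (f PA) y)
      rw [show toW (gap (f PA) y) = _ from (hf PA y).2]
      conv_lhs => rw [← pk_eta y, gap_sl ι hι, toW_pk, hadjT, hA]
      simp only [PA, Units.val_one, inv_one, mul_one, hau]
      ext i j
      fin_cases i <;> fin_cases j <;>
        simp [A2, toW, Matrix.mulVec, dotProduct, Fin.sum_univ_three, Matrix.mul_apply, zA, zB] <;> ring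
  have hh1 : gap (f P1) e0 = x := by
    refine ext_MW ((hf P1 e0).1.trans ?_) ((hf P1 e0).2.trans ?_)
    · simp only [P1, hcu]
      rw [e0, toM_pk]
      simp only [Pi.zero_apply]
      rw [← hc2, mul_assoc, ← hcu, Units.mul_inv, mul_one]
    · rw [e0, toW_pk]
      have : toW x = 0 := by
        ext i j; fin_cases i <;> fin_cases j <;> simp [toW, hx2, hx3, hx5', hx6]
      rw [this]
      have h00 : (!![(0 : Fin 3 → F) 1, (0 : Fin 3 → F) 2; (0 : Fin 3 → F) 2, -(0 : Fin 3 → F) 1] :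
          Matrix (Fin 2) (Fin 2) F) = 0 := by
        ext i j; fin_cases i <;> fin_cases j <;> simp
      rw [h00, mul_zero, zero_mul]
  have hc0 : Commute ((f P1)⁻¹ * g) (ι A) := by
    refine Commute.mul_left (Commute.inv_left ?_) hc
    rw [hιA, Commute, SemiconjBy, ← map_mul, ← map_mul]
    congr 1
    exact Subtype.ext (Prod.ext (by simp [P1, PA]) (by simp [P1, PA]))
  obtain ⟨B, hB⟩ := stab_eq ι hι ((f P1)⁻¹ * g)
    (show gap ((f P1)⁻¹ * g) e0 = e0 by rw [gap_mul, ← hxd, ← hh1, gap_inv_gap])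
  have hBA : B * A = A * B := sl_inj ι hι (by rw [map_mul, map_mul, hB, hc0.eq])
  have hBAm := congrArg (fun M : SL3 F => (M : Matrix (Fin 3) (Fin 3) F)) hBA
  simp only [Matrix.SpecialLinearGroup.coe_mul, hA] at hBAm
  have e01 := congrFun (congrFun hBAm 0) 1; have e02 := congrFun (congrFun hBAm 0) 2
  have e10 := congrFun (congrFun hBAm 1) 0; have e20 := congrFun (congrFun hBAm 2) 0
  simp [Matrix.mul_apply, Fin.sum_univ_three] at e01 e02 e10 e20
  obtain ⟨B00, hB00⟩ : ∃ b, (B : Matrix (Fin 3) (Fin 3) F) 0 0 = b := ⟨_, rfl⟩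
  have hB10 := sys _ _ e10.symm e20.symm
  have hB01 : (B : Matrix (Fin 3) (Fin 3) F) 0 1 = 0 ∧ (B : Matrix (Fin 3) (Fin 3) F) 0 2 = 0 :=
    ⟨(mul_eq_zero.1 (show ((u - 1) * (z - 1) - v * w) * (B : Matrix (Fin 3) (Fin 3) F) 0 1 = 0 by
        linear_combination (z - 1) * e01 - w * e02)).resolve_left hδ,
      (mul_eq_zero.1 (show ((u - 1) * (z - 1) - v * w) * (B : Matrix (Fin 3) (Fin 3) F) 0 2 = 0 by
        linear_combination (u - 1) * e02 - v * e01)).resolve_left hδ⟩
  let B2 : Matrix (Fin 2) (Fin 2) F :=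
    !![(B : Matrix (Fin 3) (Fin 3) F) 1 1, (B : Matrix (Fin 3) (Fin 3) F) 1 2;
      (B : Matrix (Fin 3) (Fin 3) F) 2 1, (B : Matrix (Fin 3) (Fin 3) F) 2 2]
  have hBdet : B00 * B2.det = 1 := by
    have := B.2
    rw [Matrix.det_fin_three, hB00, hB01.1, hB01.2, hB10.1, hB10.2] at this
    rw [Matrix.det_fin_two_of]; linear_combination this
  have hB0 : B00 ≠ 0 := fun h => by rw [h, zero_mul] at hBdet; exact zero_ne_one hBdet
  have hB2 : B2.det = B00⁻¹ := eq_inv_of_mul_eq_one_right hBdet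
  let bu : GL (Fin 2) F := Matrix.GeneralLinearGroup.mkOfDetNeZero B2 (hB2 ▸ inv_ne_zero hB0)
  let cd : GL (Fin 2) F := Matrix.GeneralLinearGroup.mkOfDetNeZero !![1, 0; 0, B00⁻¹]
    (by simp [Matrix.det_fin_two_of, hB0])
  have hcd : ((cd⁻¹ : GL (Fin 2) F) : Matrix (Fin 2) (Fin 2) F) = !![1, 0; 0, B00] := by
    rw [Matrix.coe_units_inv]
    refine Matrix.inv_eq_right_inv ?_
    show !![1, 0; 0, B00⁻¹] * !![1, 0; 0, B00] = 1
    ext i j; fin_cases i <;> fin_cases j <;> simp [hB0]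
  let PB : Pairs F := ⟨(cd, bu), mem_Pairs.2 (Units.ext (by
    show Matrix.det !![1, 0; 0, B00⁻¹] = B2.det
    rw [hB2]; simp [Matrix.det_fin_two_of]))⟩
  have hBadj : (B : Matrix (Fin 3) (Fin 3) F).adjugateᵀ = !![B2.det, 0, 0;
      0, B00 * (B : Matrix (Fin 3) (Fin 3) F) 2 2, -(B00 * (B : Matrix (Fin 3) (Fin 3) F) 2 1);
      0, -(B00 * (B : Matrix (Fin 3) (Fin 3) F) 1 2), B00 * (B : Matrix (Fin 3) (Fin 3) F) 1 1] := by
    rw [Matrix.adjugate_fin_three, Matrix.det_fin_two_of]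
    ext i j; fin_cases i <;> fin_cases j <;> simp [hB00, hB01.1, hB01.2, hB10.1, hB10.2]
  have hιB : ι B = f PB := by
    refine gap_ext fun y => ext_MW ?_ ?_
    · show _ = toM (gap (f PB) y)
      rw [show toM (gap (f PB) y) = _ from (hf PB y).1]
      conv_lhs => rw [← pk_eta y, gap_sl ι hι, toM_pk, hBadj, hB2]
      simp only [PB, hcd]
      show _ = !![1, 0; 0, B00⁻¹] * toM y * !![1, 0; 0, B00]
      ext i j
      fin_cases i <;> fin_cases j <;>
        simp [toM, Matrix.mulVec, dotProduct, Fin.sum_univ_three, Matrix.mul_apply, zA, zB, hB00, hB01.1,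
          hB01.2, hB0, mul_comm]
    · show _ = toW (gap (f PB) y)
      rw [show toW (gap (f PB) y) = _ from (hf PB y).2]
      conv_lhs => rw [← pk_eta y, gap_sl ι hι, toW_pk, hBadj]
      simp only [PB, hcd]
      show _ = B2 * toW y * !![1, 0; 0, B00]
      ext i j
      fin_cases i <;> fin_cases j <;>
        simp [B2, toW, Matrix.mulVec, dotProduct, Fin.sum_univ_three, Matrix.mul_apply, zA, zB, hB10.1,
          hB10.2] <;> ring
  have hgP : g = f (P1 * PB) := by rw [map_mul, ← hιB, hB, mul_inv_cancel_left]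
  have hq : 2 ≤ p ^ a := (Fact.out : p.Prime).two_le.trans (Nat.le_self_pow (by omega) p)
  have pw : ∀ (P : Pairs F) (N : ℕ), ((P.1.1 : GL (Fin 2) F) : Matrix (Fin 2) (Fin 2) F) ^ N = 1 →
      ((P.1.2 : GL (Fin 2) F) : Matrix (Fin 2) (Fin 2) F) ^ N = 1 → orderOf (f P) ∣ N := fun P N h h' => by
    refine orderOf_dvd_of_pow_eq_one ?_
    rw [← map_pow, show P ^ N = 1 from Subtype.ext (Prod.ext (Units.ext (by simpa using h))
      (Units.ext (by simpa using h'))), map_one]
  have hnz : ∀ G : GL (Fin 2) F, (G : Matrix (Fin 2) (Fin 2) F).det ≠ 0 := fun G =>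
    ((Matrix.isUnit_iff_isUnit_det _).1 G.isUnit).ne_zero
  refine good_arith Fact.out hord hcop (dvd_pow_self p (by omega)) hq ?_ ?_
  · rw [hgP]
    exact pw _ _ (gl2_bound p a ha hF _ (hnz _)).1 (gl2_bound p a ha hF _ (hnz _)).1
  · rw [← hm, hgA, hιA]
    rcases (gl2_bound p a ha hF A2 (by rw [hA2]; exact one_ne_zero)).2 hA2 with h | h
    · exact Or.inl (pw _ _ (by simp [PA]) h)
    · exact Or.inr (pw _ _ (by simp [PA]) h)

/-- An element whose semisimple part fixes the idempotent `e0`. -/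
theorem good_fix_e0 {g : G2 F} {k m : ℕ} (hord : orderOf g = p ^ k * m) (hcop : ¬ p ∣ m)
    (hm : orderOf (g ^ p ^ k) = m) (hm1 : 1 < m) (he : gap (g ^ p ^ k) e0 = e0) :
    Good p (p ^ a) (orderOf g) := by
  obtain ⟨ι, hι⟩ := exists_slHom (F := F)
  obtain ⟨A, hA⟩ := stab_eq ι hι (g ^ p ^ k) he
  by_cases hd : ((A : Matrix (Fin 3) (Fin 3) F) - 1).det = 0
  swap
  · have hg := fix_e0_of_det ι hι hd (hA ▸ (Commute.refl g).pow_right _ : Commute g (ι A))
    obtain ⟨B, hB⟩ := stab_eq ι hι g hg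
    rw [← hB, orderOf_injective ι (sl_inj ι hι)]
    exact good_sl p a ha B (Or.inl ⟨by rw [← hF, FiniteField.pow_card], by
      rw [← hF, FiniteField.pow_card]⟩)
  obtain ⟨v, hv0, hv⟩ := Matrix.exists_mulVec_eq_zero_iff.2 hd
  rw [Matrix.sub_mulVec, Matrix.one_mulVec, sub_eq_zero] at hv
  obtain ⟨C, hC⟩ := exists_col hv0
  have h1 : ((C⁻¹ * A * C : SL3 F) : Matrix (Fin 3) (Fin 3) F) *ᵥ Pi.single 0 1 = Pi.single 0 1 := by
    rw [Matrix.SpecialLinearGroup.coe_mul, Matrix.SpecialLinearGroup.coe_mul, ← Matrix.mulVec_mulVec,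
      hC, ← Matrix.mulVec_mulVec, hv, ← hC, Matrix.mulVec_mulVec, ← Matrix.SpecialLinearGroup.coe_mul,
      inv_mul_cancel, Matrix.SpecialLinearGroup.coe_one, Matrix.one_mulVec]
  set A1 := C⁻¹ * A * C with hA1d
  set M := (A1 : Matrix (Fin 3) (Fin 3) F) with hMd
  have m00 : M 0 0 = 1 := by simpa [Matrix.mulVec_single_one] using congrFun h1 0
  have m10 : M 1 0 = 0 := by simpa [Matrix.mulVec_single_one] using congrFun h1 1
  have m20 : M 2 0 = 0 := by simpa [Matrix.mulVec_single_one] using congrFun h1 2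
  have hdet : M 1 1 * M 2 2 - M 1 2 * M 2 1 = 1 := by
    have := A1.2
    rw [Matrix.det_fin_three, ← hMd, m00, m10, m20] at this
    linear_combination this
  by_cases hδ : (M 1 1 - 1) * (M 2 2 - 1) - M 1 2 * M 2 1 = 0
  · exfalso
    have htr : M.trace = 3 := by
      rw [Matrix.trace_fin_three, m00]; linear_combination hdet - hδ
    have hadj : M.adjugate.trace = 3 := by
      rw [Matrix.trace_fin_three, Matrix.adjugate_fin_three]
      simp [m00, m10, m20]
      linear_combination 2 * hdet - hδ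
    have hcp : M.charpoly = (Polynomial.X - Polynomial.C (1 : F)) ^ 3 := by
      rw [charpoly_fin_three', htr, hadj, A1.2]
      simp only [map_ofNat, map_one]; ring
    have h3 : (M - 1) ^ 3 = 0 := by
      have := Matrix.aeval_self_charpoly M
      rw [hcp, map_pow, map_sub, Polynomial.aeval_X, Polynomial.aeval_C, map_one] at this
      exact this
    have hp2 : M ^ p ^ 2 = 1 := by
      have h4 : 3 ≤ p ^ 2 := by
        calc 3 ≤ 2 ^ 2 := by norm_num
          _ ≤ p ^ 2 := Nat.pow_le_pow_left (Fact.out : p.Prime).two_le 2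
      have h5 : (M - 1) ^ p ^ 2 = 0 := by
        rw [← Nat.add_sub_cancel' h4, pow_add, h3, zero_mul]
      rwa [sub_pow_char_pow_of_commute _ _ (Commute.one_right M), one_pow, sub_eq_zero] at h5
    have h6 : m ∣ p ^ 2 := by
      rw [← hm, ← hA, orderOf_injective ι (sl_inj ι hι)]
      have e : orderOf A1 = orderOf A := by
        rw [hA1d, show C⁻¹ * A * C = MulAut.conj C⁻¹ A by rw [MulAut.conj_apply, inv_inv]]
        exact MulEquiv.orderOf_eq _ _
      rw [← e]
      exact orderOf_dvd_of_pow_eq_one (Subtype.ext (by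
        rw [Matrix.SpecialLinearGroup.coe_pow, Matrix.SpecialLinearGroup.coe_one, ← hMd]; exact hp2))
    have := Nat.eq_one_of_dvd_coprimes
      ((((Fact.out : p.Prime).coprime_iff_not_dvd).2 hcop).pow_left 2) h6 dvd_rfl
    omega
  set x := (M 0 1 * (M 2 2 - 1) - M 0 2 * M 2 1) / ((M 1 1 - 1) * (M 2 2 - 1) - M 1 2 * M 2 1) with hx
  set y := (M 0 2 * (M 1 1 - 1) - M 0 1 * M 1 2) / ((M 1 1 - 1) * (M 2 2 - 1) - M 1 2 * M 2 1) with hy
  let E : SL3 F := ⟨!![1, x, y; 0, 1, 0; 0, 0, 1], by simp [Matrix.det_fin_three]⟩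
  let A0 : SL3 F := ⟨!![1, 0, 0; 0, M 1 1, M 1 2; 0, M 2 1, M 2 2], by
    simp [Matrix.det_fin_three]; linear_combination hdet⟩
  have hE : A1 * E = E * A0 := by
    refine Subtype.ext ?_
    rw [Matrix.SpecialLinearGroup.coe_mul A1 E, Matrix.SpecialLinearGroup.coe_mul E A0, ← hMd]
    ext i j
    fin_cases i <;> fin_cases j <;> simp [E, A0, Matrix.mul_apply, Fin.sum_univ_three, m00, m10, m20]
    · rw [hx, hy, eq_comm, div_mul_eq_mul_div, div_mul_eq_mul_div, ← add_div, div_eq_iff hδ,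
        add_mul, div_mul_cancel₀ _ hδ]
      ring
    · rw [hx, hy, eq_comm, div_mul_eq_mul_div, div_mul_eq_mul_div, ← add_div, div_eq_iff hδ,
        add_mul, div_mul_cancel₀ _ hδ]
      ring
  have hA0 : A0 = (C * E)⁻¹ * A * (C * E) := by
    calc A0 = E⁻¹ * (E * A0) := (inv_mul_cancel_left _ _).symm
      _ = E⁻¹ * (A1 * E) := by rw [hE]
      _ = _ := by rw [hA1d]; group
  have hgA : cj (ι (C * E)) g ^ p ^ k = ι A0 := by
    rw [cj_pow, ← hA, hA0]; simp only [cj, map_mul, map_inv, mul_assoc]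
  rw [← orderOf_cj (ι (C * E)) g]
  exact good_block p a ha hF (by rw [orderOf_cj]; exact hord) hcop
    (by rw [cj_pow, orderOf_cj]; exact hm) ι hι A0 _ _ _ _ rfl hδ hgA

/-- An element whose semisimple part fixes an idempotent. -/
theorem good_fix_idem (hq : 3 ≤ Fintype.card F) {g : G2 F} {k m : ℕ} (hord : orderOf g = p ^ k * m)
    (hcop : ¬ p ∣ m) (hm : orderOf (g ^ p ^ k) = m) (hm1 : 1 < m) {e : Fin 8 → F} (he : e ∈ Idem F)
    (hs : gap (g ^ p ^ k) e = e) : Good p (p ^ a) (orderOf g) := by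
  obtain ⟨h, hh⟩ := inOrb_of_idem (by rw [Nat.card_eq_fintype_card]; exact hq) he
  rw [← orderOf_cj h g]
  exact good_fix_e0 p a ha hF (by rw [orderOf_cj]; exact hord) hcop
    (by rw [cj_pow, orderOf_cj]; exact hm) hm1 (by rw [cj_pow]; exact gap_cj_fix hh hs)

end

end CfsgLib.GTwoSpec
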