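import Cfsg.Agent.Lib.GTwoSpec.Words
import Cfsg.Agent.Lib.GTwoSpec.Iso
import Cfsg.Agent.Lib.GTwoSpec.Split
import Cfsg.Agent.Lib.FormRep.Unitary
import Cfsg.Agent.S2371

/-!
Elements of `G₂(q)` of the maximal orders.
-/

set_option autoImplicit false

namespace CfsgLib.GTwoSpec

open Cfsg.Lie Cfsg.Agent.GTwoZorn Matrix

variable {F : Type*} [Field F]

local notation "SL3" => Matrix.SpecialLinearGroup (Fin 3)

theorem exists_order_singer [Fintype F] {q : ℕ} (hF : Fintype.card F = q) (hq : 3 ≤ q) :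
    ∃ g : G2 F, orderOf g = q ^ 2 + q + 1 := by
  obtain ⟨H, hc, hcard, -⟩ := Cfsg.Agent.S2371.result (F := F) q hF hq
  obtain ⟨e⟩ := exists_equiv (F := F) (hF ▸ hq)
  obtain ⟨h, hh⟩ := hc.exists_generator
  exact ⟨e h, by rw [MulEquiv.orderOf_eq, Subgroup.orderOf_coe, orderOf_eq_card_of_forall_mem_zpowers hh, hcard]⟩

theorem exists_units_order [Fintype F] {q : ℕ} (hF : Fintype.card F = q) :
    ∃ c : F, c ≠ 0 ∧ orderOf c = q - 1 := by
  obtain ⟨u, hu⟩ := IsCyclic.exists_generator (α := Fˣ)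
  exact ⟨u, u.ne_zero, by
    rw [orderOf_units, orderOf_eq_card_of_forall_mem_zpowers hu, Nat.card_units,
      Nat.card_eq_fintype_card, hF]⟩

/-- An element of `GL₂(q)` of order `q² - 1`. -/
theorem exists_gl2_order [Fintype F] (p : ℕ) [Fact p.Prime] [CharP F p] {q : ℕ}
    (hF : Fintype.card F = q) :
    ∃ M : Matrix (Fin 2) (Fin 2) F, M.det ≠ 0 ∧ orderOf M = q ^ 2 - 1 := by
  classical
  set K := FiniteField.Extension F p 2
  have hfr : Module.finrank F K = 2 := FiniteField.finrank_extension F p 2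
  have : Fintype K := Fintype.ofFinite K
  let b := Module.finBasisOfFinrankEq F K hfr
  obtain ⟨u, hu0, hu⟩ := exists_units_order (F := K) (q := q ^ 2)
    (by rw [← Nat.card_eq_fintype_card, FiniteField.natCard_extension, Nat.card_eq_fintype_card, hF])
  refine ⟨Algebra.leftMulMatrix b u, ?_, ?_⟩
  · intro h
    have := congrArg Matrix.det (show Algebra.leftMulMatrix b u * Algebra.leftMulMatrix b u⁻¹ = 1 by
      rw [← map_mul, mul_inv_cancel₀ hu0, map_one])
    rw [Matrix.det_mul, h, zero_mul, Matrix.det_one] at this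
    exact zero_ne_one this
  · rw [← hu]
    exact orderOf_injective (Algebra.leftMulMatrix b).toMonoidHom (Algebra.leftMulMatrix_injective b) u

theorem exists_order_sq_sub_one [Fintype F] (p : ℕ) [Fact p.Prime] [CharP F p] {q : ℕ}
    (hF : Fintype.card F = q) : ∃ g : G2 F, orderOf g = q ^ 2 - 1 := by
  obtain ⟨ι, hι⟩ := exists_slHom (F := F)
  obtain ⟨M, hM0, hM⟩ := exists_gl2_order p hF
  let T : Matrix (Fin 2) (Fin 2) F → Matrix (Fin 3) (Fin 3) F := fun A =>
    !![A 0 0, A 0 1, 0; A 1 0, A 1 1, 0; 0, 0, A.det⁻¹]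
  have hT : ∀ A B, T (A * B) = T A * T B := fun A B => by
    ext i j
    fin_cases i <;> fin_cases j <;>
      simp [T, Matrix.mul_apply, Fin.sum_univ_two, Fin.sum_univ_three, Matrix.det_mul, mul_comm]
  have hT1 : T 1 = 1 := by
    ext i j
    fin_cases i <;> fin_cases j <;> simp [T]
  let f : Matrix (Fin 2) (Fin 2) F →* Matrix (Fin 3) (Fin 3) F :=
    { toFun := T, map_one' := hT1, map_mul' := hT }
  have hf : Function.Injective f := fun A B h => by
    ext i j
    have := congrFun (congrFun h i.castSucc) j.castSucc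
    fin_cases i <;> fin_cases j <;> simpa [f, T] using this
  let B : SL3 F := ⟨T M, by
    simp [T, Matrix.det_fin_three]
    rw [← sub_mul, ← Matrix.det_fin_two, mul_inv_cancel₀ hM0]⟩
  refine ⟨ι B, ?_⟩
  rw [orderOf_injective ι (sl_inj ι hι), ← hM, ← orderOf_injective f hf M,
    ← orderOf_injective (⟨⟨fun A : SL3 F => (A : Matrix (Fin 3) (Fin 3) F), rfl⟩,
      fun _ _ => rfl⟩ : SL3 F →* Matrix (Fin 3) (Fin 3) F) Subtype.val_injective]
  rfl

theorem exists_order_mul_sub_one [Fintype F] (p : ℕ) [Fact p.Prime] [CharP F p] {q : ℕ}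
    (hF : Fintype.card F = q) : ∃ g : G2 F, orderOf g = p * (q - 1) := by
  obtain ⟨ι, hι⟩ := exists_slHom (F := F)
  obtain ⟨c, hc0, hc⟩ := exists_units_order hF
  let J : ℕ → Matrix (Fin 3) (Fin 3) F := fun n =>
    !![c ^ n, n * c ^ n, 0; 0, c ^ n, 0; 0, 0, ((c ^ n) ^ 2)⁻¹]
  let B : SL3 F := ⟨J 1, by simp [J, Matrix.det_fin_three]; field_simp⟩
  have hpow : ∀ n, ((B ^ n : SL3 F) : Matrix (Fin 3) (Fin 3) F) = J n := by
    intro n
    induction n with
    | zero => ext i j; fin_cases i <;> fin_cases j <;> simp [J]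
    | succ n ih =>
      rw [pow_succ, Matrix.SpecialLinearGroup.coe_mul, ih]
      ext i j
      fin_cases i <;> fin_cases j <;>
        simp [B, J, Matrix.mul_apply, Fin.sum_univ_three, pow_succ, mul_pow] <;> ring
  have hq1 : 1 ≤ q := hF ▸ Fintype.card_pos
  have hcop : Nat.Coprime p (q - 1) := by
    refine ((Fact.out : p.Prime).coprime_iff_not_dvd).2 fun h => ?_
    have hpq : p ∣ q := by
      rw [← hF]; exact (CharP.cast_eq_zero_iff F p _).1 (Nat.cast_card_eq_zero F)
    have := Nat.dvd_sub hpq h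
    rw [Nat.sub_sub_self hq1] at this
    exact (Fact.out : p.Prime).not_dvd_one this
  refine ⟨ι B, ?_⟩
  rw [orderOf_injective ι (sl_inj ι hι)]
  refine Nat.dvd_antisymm (orderOf_dvd_of_pow_eq_one ?_) ?_
  · refine Subtype.ext ?_
    rw [hpow, Matrix.SpecialLinearGroup.coe_one]
    have e1 : c ^ (p * (q - 1)) = 1 := by rw [← hc, mul_comm, pow_mul, pow_orderOf_eq_one, one_pow]
    simp only [J, e1, Nat.cast_mul, CharP.cast_eq_zero F p]
    ext i j
    fin_cases i <;> fin_cases j <;> simp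
  · have h := hpow (orderOf B)
    rw [pow_orderOf_eq_one, Matrix.SpecialLinearGroup.coe_one] at h
    have h00 := congrFun (congrFun h 0) 0
    have h01 := congrFun (congrFun h 0) 1
    simp [J] at h00 h01
    refine hcop.mul_dvd_of_dvd_of_dvd ?_ (hc ▸ orderOf_dvd_of_pow_eq_one h00.symm)
    refine (CharP.cast_eq_zero_iff F p _).1 ?_
    rcases h01 with h' | h'
    · exact h'
    · exact absurd h'.1 hc0

theorem exists_order_mul_add_one [Fintype F] (p : ℕ) [Fact p.Prime] [CharP F p] {q : ℕ}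
    (hF : Fintype.card F = q) (hq : 3 ≤ q) : ∃ g : G2 F, orderOf g = p * (q + 1) := by
  obtain ⟨f, hf⟩ := exists_pairHom (F := F)
  obtain ⟨M, hM0, hM⟩ := exists_gl2_order p hF
  set D := M ^ (q - 1)
  have hD : D.det = 1 := by
    rw [Matrix.det_pow, ← hF]; exact FiniteField.pow_card_sub_one_eq_one _ hM0
  have hDo : orderOf D = q + 1 := by
    have e : q ^ 2 - 1 = (q + 1) * (q - 1) := by simpa using Nat.sq_sub_sq q 1
    rw [orderOf_pow_of_dvd (by omega) (hM ▸ e ▸ dvd_mul_left _ _), hM, e,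
      Nat.mul_div_cancel _ (by omega)]
  let du : GL (Fin 2) F := Matrix.GeneralLinearGroup.mkOfDetNeZero D (hD ▸ one_ne_zero)
  let cu : GL (Fin 2) F := Matrix.GeneralLinearGroup.mkOfDetNeZero !![1, 1; 0, 1]
    (by simp [Matrix.det_fin_two_of])
  have hduv : (du : Matrix (Fin 2) (Fin 2) F) = D := rfl
  have hcuv : (cu : Matrix (Fin 2) (Fin 2) F) = !![1, 1; 0, 1] := rfl
  let P : Pairs F := ⟨(cu, du), mem_Pairs.2 (Units.ext (by
    show Matrix.det !![(1 : F), 1; 0, 1] = D.det
    rw [hD]; simp [Matrix.det_fin_two_of]))⟩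
  have hcn : ∀ n : ℕ, (!![(1 : F), 1; 0, 1]) ^ n = !![1, (n : F); 0, 1] := by
    intro n
    induction n with
    | zero => ext i j; fin_cases i <;> fin_cases j <;> simp
    | succ n ih =>
      rw [pow_succ, ih]
      ext i j
      fin_cases i <;> fin_cases j <;> simp [Matrix.mul_apply, add_comm]
  have hcop : Nat.Coprime p (q + 1) := by
    refine ((Fact.out : p.Prime).coprime_iff_not_dvd).2 fun h => ?_
    have hpq : p ∣ q := by
      rw [← hF]; exact (CharP.cast_eq_zero_iff F p _).1 (Nat.cast_card_eq_zero F)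
    exact (Fact.out : p.Prime).not_dvd_one ((Nat.dvd_add_right hpq).1 h)
  refine ⟨f P, Nat.dvd_antisymm (orderOf_dvd_of_pow_eq_one ?_) ?_⟩
  · rw [← map_pow, show P ^ (p * (q + 1)) = 1 from Subtype.ext (Prod.ext (Units.ext ?_) (Units.ext ?_)),
      map_one]
    · show ((cu ^ (p * (q + 1)) : GL (Fin 2) F) : Matrix (Fin 2) (Fin 2) F) = 1
      rw [Units.val_pow_eq_pow_val, hcuv, hcn]
      simp [Matrix.one_fin_two]
    · show ((du ^ (p * (q + 1)) : GL (Fin 2) F) : Matrix (Fin 2) (Fin 2) F) = 1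
      rw [Units.val_pow_eq_pow_val, hduv, mul_comm, pow_mul, ← hDo, pow_orderOf_eq_one, one_pow]
  · set n := orderOf (f P)
    have h1 : f (P ^ n) = 1 := by rw [map_pow]; exact pow_orderOf_eq_one _
    have hn : (n : F) = 0 := by
      have h := (hf (P ^ n) (ofMW !![1, 0; 0, 0] 0)).1
      rw [h1] at h
      change toM (gap 1 _) = _ at h
      rw [gap_one, toM_ofMW] at h
      have h' := congrArg (· * ((P ^ n).1.1 : Matrix (Fin 2) (Fin 2) F)) h
      simp only [mul_assoc, Units.inv_mul, mul_one] at h'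
      change !![(1 : F), 0; 0, 0] * ((cu ^ n : GL (Fin 2) F) : Matrix (Fin 2) (Fin 2) F) =
        ((cu ^ n : GL (Fin 2) F) : Matrix (Fin 2) (Fin 2) F) * !![1, 0; 0, 0] at h'
      rw [Units.val_pow_eq_pow_val, hcuv, hcn] at h'
      simpa [Matrix.mul_apply] using congrFun (congrFun h' 0) 1
    have hc1 : cu ^ n = 1 := Units.ext (by
      rw [Units.val_pow_eq_pow_val, hcuv, hcn, hn, Units.val_one, Matrix.one_fin_two])
    refine hcop.mul_dvd_of_dvd_of_dvd ((CharP.cast_eq_zero_iff F p _).1 hn) (hDo ▸ ?_)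
    refine orderOf_dvd_of_pow_eq_one ?_
    have h := (hf (P ^ n) (ofMW 0 1)).2
    rw [h1] at h
    change toW (gap 1 _) = ((du ^ n : GL (Fin 2) F) : Matrix (Fin 2) (Fin 2) F) * toW (ofMW 0 1) *
      (((cu ^ n : GL (Fin 2) F)⁻¹ : GL (Fin 2) F) : Matrix (Fin 2) (Fin 2) F) at h
    rw [gap_one, toW_ofMW, hc1, inv_one, Units.val_one, mul_one, mul_one,
      Units.val_pow_eq_pow_val, hduv] at h
    exact h.symm

section Unitary

variable {K : Type*} [Field K]

/-- The swap of the two idempotents. -/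
lemma exists_swap : ∃ ρ : G2 K, ∀ α a b β,
    gap ρ (pk α a b β) = pk β ![b 0, -b 1, b 2] ![a 0, -a 1, a 2] α := by
  obtain ⟨f, hf⟩ := exists_pairHom (F := K)
  let J : GL (Fin 2) K := Matrix.GeneralLinearGroup.mkOfDetNeZero !![0, 1; 1, 0]
    (by simp [Matrix.det_fin_two_of])
  have hJ : ((J⁻¹ : GL (Fin 2) K) : Matrix (Fin 2) (Fin 2) K) = !![0, 1; 1, 0] := by
    rw [Matrix.coe_units_inv]
    refine Matrix.inv_eq_right_inv ?_
    show !![(0 : K), 1; 1, 0] * !![0, 1; 1, 0] = 1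
    ext i j; fin_cases i <;> fin_cases j <;> simp
  refine ⟨f ⟨(J, J), rfl⟩, fun α a b β => ext_MW ?_ ?_⟩
  · refine ((hf ⟨(J, J), rfl⟩ _).1).trans ?_
    rw [hJ, toM_pk, toM_pk]
    show !![(0 : K), 1; 1, 0] * _ * _ = _
    ext i j; fin_cases i <;> fin_cases j <;> simp [Matrix.mul_apply]
  · refine ((hf ⟨(J, J), rfl⟩ _).2).trans ?_
    rw [hJ, toW_pk, toW_pk]
    show !![(0 : K), 1; 1, 0] * _ * _ = _
    ext i j; fin_cases i <;> fin_cases j <;> simp [Matrix.mul_apply]

end Unitary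

/-- Passing from the standard hermitian form to `diag (1, -1, 1)`. -/
lemma exists_change_form {K : Type*} [Field K] (σ : K ≃+* K) (A : Matrix (Fin 3) (Fin 3) K)
    (hA : (A.map σ)ᵀ * A = 1) (hdet : A.det = 1) {ν : K} (hν0 : ν ≠ 0) (hν : σ ν * ν = -1) :
    ∃ B : SL3 K, ((B : Matrix (Fin 3) (Fin 3) K).map σ)ᵀ * !![1, 0, 0; 0, -1, 0; 0, 0, 1] *
      (B : Matrix (Fin 3) (Fin 3) K) = !![1, 0, 0; 0, -1, 0; 0, 0, 1] ∧ orderOf B = orderOf A := by
  let D : Matrix (Fin 3) (Fin 3) K := !![1, 0, 0; 0, ν, 0; 0, 0, 1]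
  let Di : Matrix (Fin 3) (Fin 3) K := !![1, 0, 0; 0, ν⁻¹, 0; 0, 0, 1]
  have hDDi : D * Di = 1 := by
    ext i j; fin_cases i <;> fin_cases j <;> simp [D, Di, Matrix.mul_apply, Fin.sum_univ_three, hν0]
  have hDiD : Di * D = 1 := mul_eq_one_comm.1 hDDi
  let H : Matrix (Fin 3) (Fin 3) K := !![1, 0, 0; 0, -1, 0; 0, 0, 1]
  have hDH : (D.map σ)ᵀ * D = H := by
    ext i j; fin_cases i <;> fin_cases j <;> simp [D, H, Matrix.mul_apply, Fin.sum_univ_three, hν]
  let B : SL3 K := ⟨Di * A * D, by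
    rw [Matrix.det_mul, Matrix.det_mul, mul_comm Di.det, mul_assoc, ← Matrix.det_mul, hDiD,
      Matrix.det_one, mul_one, hdet]⟩
  have hBH : ((B : Matrix (Fin 3) (Fin 3) K).map σ)ᵀ * H * (B : Matrix (Fin 3) (Fin 3) K) = H := by
    show ((Di * A * D).map σ)ᵀ * H * (Di * A * D) = H
    rw [Matrix.map_mul, Matrix.map_mul, Matrix.transpose_mul, Matrix.transpose_mul]
    have e : (Di.map σ)ᵀ * H * Di = 1 := by
      rw [← hDH, show (Di.map σ)ᵀ * ((D.map σ)ᵀ * D) * Di = ((Di.map σ)ᵀ * (D.map σ)ᵀ) * (D * Di) by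
        simp only [mul_assoc], ← Matrix.transpose_mul, ← Matrix.map_mul, hDDi]
      simp
    calc (D.map σ)ᵀ * ((A.map σ)ᵀ * (Di.map σ)ᵀ) * H * (Di * A * D)
        = (D.map σ)ᵀ * ((A.map σ)ᵀ * ((Di.map σ)ᵀ * H * Di) * A) * D := by simp only [mul_assoc]
      _ = H := by rw [e, mul_one, hA, mul_one, hDH]
  have hBo : orderOf B = orderOf A := by
    rw [← orderOf_injective (⟨⟨fun A : SL3 K => (A : Matrix (Fin 3) (Fin 3) K), rfl⟩,
      fun _ _ => rfl⟩ : SL3 K →* Matrix (Fin 3) (Fin 3) K) Subtype.val_injective]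
    show orderOf (Di * A * D) = orderOf A
    let du : (Matrix (Fin 3) (Fin 3) K)ˣ := ⟨Di, D, hDiD, hDDi⟩
    exact orderOf_eq_orderOf_iff.2 fun n => by
      have e : ∀ n, (Di * A * D) ^ n = Di * A ^ n * D := fun n => by
        induction n with
        | zero => simp [hDiD]
        | succ n ih =>
          rw [pow_succ, ih, pow_succ]
          calc Di * A ^ n * D * (Di * A * D) = Di * (A ^ n * (D * Di) * A) * D := by simp only [mul_assoc]
            _ = _ := by rw [hDDi, mul_one]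
      rw [e]
      constructor <;> intro h
      · calc A ^ n = D * (Di * A ^ n * D) * Di := by
              rw [show D * (Di * A ^ n * D) * Di = (D * Di) * A ^ n * (D * Di) by simp only [mul_assoc],
                hDDi, one_mul, mul_one]
          _ = 1 := by rw [h, mul_one, hDDi]
      · rw [h, mul_one, hDiD]
  exact ⟨B, hBH, hBo⟩

/-- An element of `G₂` over the fixed field from a matrix of the twisted `SL₃`. -/
lemma exists_descent {K : Type*} [Field K] (φ : F →+* K) (σ : K ≃+* K) (hσ : ∀ x, σ (σ x) = x)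
    (hσφ : ∀ c, σ (φ c) = φ c) (hσr : ∀ x, σ x = x → ∃ c, φ c = x) {u : K} (hσu : σ u ≠ u)
    (B : SL3 K) (hBH : ((B : Matrix (Fin 3) (Fin 3) K).map σ)ᵀ * !![1, 0, 0; 0, -1, 0; 0, 0, 1] *
      (B : Matrix (Fin 3) (Fin 3) K) = !![1, 0, 0; 0, -1, 0; 0, 0, 1]) :
    ∃ g : G2 F, orderOf g = orderOf B := by
  let H : Matrix (Fin 3) (Fin 3) K := !![1, 0, 0; 0, -1, 0; 0, 0, 1]
  change ((B : Matrix (Fin 3) (Fin 3) K).map σ)ᵀ * H * (B : Matrix (Fin 3) (Fin 3) K) = H at hBH
  obtain ⟨ι, hι⟩ := exists_slHom (F := K)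
  obtain ⟨f, hf⟩ := exists_pairHom (F := K)
  obtain ⟨ρ, hρ⟩ := exists_swap (K := K)
  let C : Matrix (Fin 2) (Fin 2) K := !![1, 1; u, σ u]
  let cu : GL (Fin 2) K := Matrix.GeneralLinearGroup.mkOfDetNeZero C (by
    rw [Matrix.det_fin_two_of, one_mul, one_mul, sub_ne_zero]; exact hσu)
  set h := f ⟨(cu, cu), rfl⟩ with hh
  set G := h * ι B * h⁻¹ with hG
  -- the Galois action
  have hρρ : ∀ x, gap ρ (gap ρ x) = x := fun x => by
    conv_lhs => rw [← pk_eta x, hρ, hρ]
    conv_rhs => rw [← pk_eta x]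
    congr 1 <;> (funext i; fin_cases i <;> simp)
  let J : Matrix (Fin 2) (Fin 2) K := !![0, 1; 1, 0]
  have hρM : ∀ x, toM (gap ρ x) = J * toM x * J ∧ toW (gap ρ x) = J * toW x * J := fun x => by
    conv => enter [1, 1, 1]; rw [← pk_eta x, hρ]
    conv => enter [2, 1, 1]; rw [← pk_eta x, hρ]
    rw [toM_pk, toW_pk]
    constructor <;>
      (ext i j; fin_cases i <;> fin_cases j <;> simp [J, toM, toW, Matrix.mul_apply, zA, zB])
  have hσC : C.map σ = C * J := by
    ext i j; fin_cases i <;> fin_cases j <;> simp [C, J, Matrix.mul_apply, hσ]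
  have hσh : ∀ x, (σ ∘ gap h x) = gap h (gap ρ (σ ∘ x)) := fun x => by
    have hmap : ∀ y : Fin 8 → K, toM (σ ∘ y) = (toM y).map σ ∧ toW (σ ∘ y) = (toW y).map σ :=
      fun y => by
        constructor <;> (ext i j; fin_cases i <;> fin_cases j <;> simp [toM, toW])
    have hCi : ((cu⁻¹ : GL (Fin 2) K) : Matrix (Fin 2) (Fin 2) K).map σ =
        J * ((cu⁻¹ : GL (Fin 2) K) : Matrix (Fin 2) (Fin 2) K) := by
      have hJJ : J * J = 1 := by ext i j; fin_cases i <;> fin_cases j <;> simp [J, Matrix.mul_apply]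
      refine (left_inv_eq_right_inv (a := C.map σ) ?_ ?_).symm
      · rw [hσC, show J * ((cu⁻¹ : GL (Fin 2) K) : Matrix (Fin 2) (Fin 2) K) * (C * J) =
            J * (((cu⁻¹ : GL (Fin 2) K) : Matrix (Fin 2) (Fin 2) K) * C) * J by simp only [mul_assoc],
          show C = ((cu : GL (Fin 2) K) : Matrix (Fin 2) (Fin 2) K) from rfl, Units.inv_mul, mul_one,
          hJJ]
      · rw [← Matrix.map_mul, show C = ((cu : GL (Fin 2) K) : Matrix (Fin 2) (Fin 2) K) from rfl,
          Units.mul_inv, Matrix.map_one _ (map_zero σ) (map_one σ)]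
    refine ext_MW ?_ ?_
    · rw [(hmap _).1, show toM (gap h x) = _ from (hf _ x).1,
        show toM (gap h (gap ρ (σ ∘ x))) = _ from (hf _ _).1, (hρM _).1, (hmap x).1]
      show (C * toM x * ((cu⁻¹ : GL (Fin 2) K) : Matrix (Fin 2) (Fin 2) K)).map σ = C * _ * _
      rw [Matrix.map_mul, Matrix.map_mul, hσC, hCi]
      simp only [mul_assoc]
    · rw [(hmap _).2, show toW (gap h x) = _ from (hf _ x).2,
        show toW (gap h (gap ρ (σ ∘ x))) = _ from (hf _ _).2, (hρM _).2, (hmap x).2]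
      show (C * toW x * ((cu⁻¹ : GL (Fin 2) K) : Matrix (Fin 2) (Fin 2) K)).map σ = C * _ * _
      rw [Matrix.map_mul, Matrix.map_mul, hσC, hCi]
      simp only [mul_assoc]
  have hσhi : ∀ x, gap ρ (σ ∘ gap h⁻¹ x) = gap h⁻¹ (σ ∘ x) := fun x => by
    have e := hσh (gap h⁻¹ x)
    rw [gap_gap_inv] at e
    rw [e, gap_inv_gap]
  have hσι : ∀ x, gap ρ (σ ∘ gap (ι B) x) = gap (ι B) (gap ρ (σ ∘ x)) := fun x => by
    have hHH : H * H = 1 := by
      ext i j; fin_cases i <;> fin_cases j <;> simp [H, Matrix.mul_apply, Fin.sum_univ_three]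
    have hHt : Hᵀ = H := by ext i j; fin_cases i <;> fin_cases j <;> simp [H]
    have hHv : ∀ v : Fin 3 → K, H *ᵥ v = ![v 0, -v 1, v 2] := fun v => by
      funext i; fin_cases i <;> simp [H, Matrix.mulVec, dotProduct, Fin.sum_univ_three]
    set M := (B : Matrix (Fin 3) (Fin 3) K) with hM
    have hMi : M.adjugate * M = 1 := by rw [Matrix.adjugate_mul, B.2, one_smul]
    -- `H` intertwines `σ B` with the contragredient of `B`
    have e1 : H * M.adjugateᵀ.map σ = M * H := by
      have h1 := congrArg (fun X => (M.adjugate.map σ)ᵀ * X) hBH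
      simp only [← mul_assoc, ← Matrix.transpose_mul, ← Matrix.map_mul] at h1
      rw [Matrix.mul_adjugate, B.2, one_smul, Matrix.map_one _ (map_zero σ) (map_one σ),
        Matrix.transpose_one, one_mul] at h1
      calc H * M.adjugateᵀ.map σ = H * (M.adjugateᵀ.map σ * H) * H := by
            rw [mul_assoc H, mul_assoc, hHH, mul_one]
        _ = H * (H * M) * H := by rw [Matrix.transpose_map, ← h1]
        _ = M * H := by rw [← mul_assoc H H, hHH, one_mul]
    have e2 : H * M.map σ = M.adjugateᵀ * H := by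
      have h1 := congrArg (fun X => X * M.adjugate) hBH
      simp only [mul_assoc] at h1
      rw [Matrix.mul_adjugate, B.2, one_smul, mul_one] at h1
      have h2 := congrArg Matrix.transpose h1
      rw [Matrix.transpose_mul, Matrix.transpose_transpose, hHt, Matrix.transpose_mul, hHt] at h2
      exact h2
    have hcm : ∀ (α : K) (a b : Fin 3 → K) (β : K),
        σ ∘ pk α a b β = pk (σ α) (σ ∘ a) (σ ∘ b) (σ β) := fun α a b β => map_pk σ.toRingHom α a b β
    conv_lhs => rw [← pk_eta x, gap_sl ι hι, hcm, hρ]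
    conv_rhs => rw [← pk_eta x, hcm, hρ, gap_sl ι hι]
    rw [← hHv, ← hHv, ← hHv, ← hHv]
    congr 1
    · rw [show σ ∘ (M.adjugateᵀ *ᵥ zB K x) = M.adjugateᵀ.map σ *ᵥ (σ ∘ zB K x) from
        funext fun i => RingHom.map_mulVec σ.toRingHom _ _ i, Matrix.mulVec_mulVec, e1,
        ← Matrix.mulVec_mulVec]
    · rw [show σ ∘ (M *ᵥ zA K x) = M.map σ *ᵥ (σ ∘ zA K x) from
        funext fun i => RingHom.map_mulVec σ.toRingHom _ _ i, Matrix.mulVec_mulVec, e2,
        ← Matrix.mulVec_mulVec]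
  have hσG : ∀ x, σ ∘ gap G x = gap G (σ ∘ x) := fun x => by
    rw [hG, gap_mul, gap_mul, hσh, hσι, hσhi, gap_mul, gap_mul]
  -- descend to `F`
  have hGfix : ∀ i j, σ ((G : GL (Fin 8) K).val i j) = (G : GL (Fin 8) K).val i j := fun i j => by
    have e := congrFun (hσG (Pi.single j 1)) i
    have hs : σ ∘ (Pi.single j 1 : Fin 8 → K) = Pi.single j 1 := funext fun k => by
      rw [Function.comp_apply, Pi.single_apply]; split_ifs <;> simp
    rw [hs] at e
    simpa [gap, Matrix.mulVec_single_one] using e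
  choose M0 hM0 using fun i j => hσr _ (hGfix i j)
  let M : Matrix (Fin 8) (Fin 8) F := Matrix.of M0
  have hMG : M.map φ = (G : GL (Fin 8) K).val := by ext i j; exact hM0 i j
  have hMdet : M.det ≠ 0 := fun h0 => by
    have h1 : (M.map φ).det = 0 := by
      rw [show (M.map φ).det = φ M.det from (RingHom.map_det φ M).symm, h0, map_zero]
    rw [hMG] at h1
    exact ((Matrix.isUnit_iff_isUnit_det _).1 (G : GL (Fin 8) K).isUnit).ne_zero h1
  have hMmem : Matrix.GeneralLinearGroup.mkOfDetNeZero M hMdet ∈ G2 F := by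
    intro x y
    show M *ᵥ zornMul x y = zornMul (M *ᵥ x) (M *ᵥ y)
    have e : ∀ v, φ ∘ (M *ᵥ v) = gap G (φ ∘ v) := fun v => funext fun i => by
      show φ ((M *ᵥ v) i) = _
      rw [RingHom.map_mulVec, hMG]; rfl
    refine funext fun i => φ.injective ?_
    have e2 : φ ∘ (M *ᵥ zornMul x y) = φ ∘ zornMul (M *ᵥ x) (M *ᵥ y) := by
      rw [e, map_zornMul, gap_zornMul, map_zornMul, e, e]
    exact congrFun e2 i
  refine ⟨⟨_, hMmem⟩, ?_⟩
  have he : extG φ ⟨_, hMmem⟩ = G := Subtype.ext (Units.ext (by rw [coe_extG]; exact hMG))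
  rw [← orderOf_injective (extG φ) (extG_injective φ), he, hG,
    show h * ι B * h⁻¹ = MulAut.conj h (ι B) from (MulAut.conj_apply _ _).symm, MulEquiv.orderOf_eq,
    orderOf_injective ι (sl_inj ι hι)]

/-- An element of order `q² - q + 1`. -/
theorem exists_order_hermitian [Fintype F] (p a : ℕ) [Fact p.Prime] [CharP F p] (ha : 1 ≤ a)
    (hF : Fintype.card F = p ^ a) (hq : 3 ≤ p ^ a) :
    ∃ g : G2 F, orderOf g = (p ^ a) ^ 2 - p ^ a + 1 := by
  classical
  set q := p ^ a with hqd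
  have hp : p.Prime := Fact.out
  set K := FiniteField.Extension F p 2
  let φ : F →+* K := algebraMap F K
  have : CharP K p := charP_of_injective_algebraMap φ.injective p
  have : Fintype K := Fintype.ofFinite K
  have hK : Fintype.card K = q ^ 2 := by
    rw [← Nat.card_eq_fintype_card, FiniteField.natCard_extension, Nat.card_eq_fintype_card, hF]
  obtain ⟨σ, hσq⟩ := CfsgLib.FormRep.exists_powEquiv (F := K) K p hp a
  rw [← hqd] at hσq
  have hσ : ∀ x, σ (σ x) = x := fun x => by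
    rw [hσq, hσq, ← pow_mul, ← sq, ← hK, FiniteField.pow_card]
  have hσφ : ∀ c, σ (φ c) = φ c := fun c => by rw [hσq, ← map_pow, ← hF, FiniteField.pow_card]
  have hσr : ∀ x, σ x = x → ∃ c, φ c = x := fun x hx => by
    have hsub : ¬ ∀ c, φ c ≠ x := fun hno => by
      let f : Polynomial K := Polynomial.X ^ q - Polynomial.X
      have hf : f ≠ 0 := FiniteField.X_pow_card_sub_X_ne_zero K (by omega)
      have hsub : insert x (Finset.univ.image φ) ⊆ f.roots.toFinset := by
        intro y hy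
        rw [Multiset.mem_toFinset, Polynomial.mem_roots hf]
        rcases Finset.mem_insert.1 hy with rfl | hy
        · simp [f, ← hσq, hx]
        · obtain ⟨c, -, rfl⟩ := Finset.mem_image.1 hy
          simp [f, ← hσq, hσφ]
      have h1 := (Finset.card_le_card hsub).trans ((Multiset.toFinset_card_le _).trans f.card_roots')
      rw [Finset.card_insert_of_notMem (by
          simp only [Finset.mem_image, Finset.mem_univ, true_and, not_exists]; exact hno),
        Finset.card_image_of_injective _ φ.injective, Finset.card_univ,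
        FiniteField.X_pow_card_sub_X_natDegree_eq K (by omega), hF] at h1
      omega
    simpa using hsub
  obtain ⟨u, hu0, huo⟩ := exists_units_order hK
  have hq2 : 1 ≤ q ^ 2 := Nat.one_le_pow _ _ (by omega)
  have hσu : σ u ≠ u := fun h => by
    have h2 : u ^ (q - 1) = 1 := by
      apply mul_left_cancel₀ hu0
      rw [← pow_succ', Nat.sub_add_cancel (by omega), ← hσq, h, mul_one]
    have h3 := Nat.le_of_dvd (by omega) (huo ▸ orderOf_dvd_of_pow_eq_one h2)
    nlinarith [Nat.sub_add_cancel hq2, Nat.sub_add_cancel (show 1 ≤ q by omega)]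
  have hne : σ ≠ RingEquiv.refl K := fun h => hσu (by rw [h]; rfl)
  -- a unitary matrix of order `q² - q + 1`
  obtain ⟨A, hA, hdet, hAo⟩ : ∃ A : Matrix (Fin 3) (Fin 3) K,
      (A.map σ)ᵀ * A = 1 ∧ A.det = 1 ∧ orderOf A = q ^ 2 - q + 1 := by
    let L := FiniteField.Extension K p 3
    have hfr : Module.finrank K L = 3 := FiniteField.finrank_extension K p 3
    obtain ⟨τ, hτ⟩ := CfsgLib.FormRep.exists_powEquiv (F := K) L p hp (a * 3)
    have hτq : ∀ y : L, τ y = y ^ q ^ 3 := fun y => by rw [hqd, ← pow_mul]; exact hτ y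
    have hτK : ∀ c : K, τ (algebraMap K L c) = algebraMap K L (σ c) := fun c => by
      rw [hτq, hσq, ← map_pow, pow_succ q 2, pow_mul, ← hK, FiniteField.pow_card]
    have hcL : Nat.card L = (q ^ 2) ^ 3 := by
      rw [FiniteField.natCard_extension K p 3, Nat.card_eq_fintype_card, hK]
    have : Fintype L := Fintype.ofFinite L
    have hτ2 : ∀ y : L, τ (τ y) = y := fun y => by
      rw [hτq, hτq, ← pow_mul, show q ^ 3 * q ^ 3 = (q ^ 2) ^ 3 by ring, ← hcL,
        Nat.card_eq_fintype_card]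
      exact FiniteField.pow_card y
    have hwit : ∃ (x : L) (c : K), c • x + (1 * σ c) • τ x ≠ 0 := by
      by_cases h2 : (2 : K) = 0
      · refine ⟨1, u, ?_⟩
        rw [map_one, one_mul, ← add_smul, Ne, smul_eq_zero]
        simp only [one_ne_zero, or_false]
        exact fun h => hσu (by linear_combination h - u * h2)
      · refine ⟨1, 1, ?_⟩
        rw [map_one, map_one, one_mul, ← add_smul, Ne, smul_eq_zero]
        simp [one_add_one_eq_two, h2]
    obtain ⟨D, hD⟩ := CfsgLib.FormRep.Dat.exists_field (σ := σ) (ε := (1 : K)) hσ (one_mul 1)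
      (map_one σ) τ hτ2 hτK hwit
    obtain ⟨Φ, hΦ, hbar⟩ := CfsgLib.FormRep.exists_rep_unitary hσ hne D (n := 3) hfr
    obtain ⟨v, hv0, hvo⟩ := exists_units_order (F := L) (q := (q ^ 2) ^ 3)
      (by rw [← Nat.card_eq_fintype_card, hcL])
    set N := q ^ 2 - q + 1 with hN
    set m := (q ^ 2 - 1) * (q ^ 2 + q + 1) with hm
    have hle : q ≤ q ^ 2 := Nat.le_self_pow two_ne_zero q
    have hmN : m * N = (q ^ 2) ^ 3 - 1 := by
      have h1 : 1 ≤ (q ^ 2) ^ 3 := Nat.one_le_pow _ _ (by omega)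
      rw [hm, hN]
      zify [hle, hq2, h1]
      ring
    have hsN : (q + 1) * N = q ^ 3 + 1 := by
      rw [hN]; zify [hle]; ring
    have hm0 : 0 < m := Nat.mul_pos (by nlinarith [Nat.sub_add_cancel hq2]) (by omega)
    set w := v ^ m with hw
    have hwo : orderOf w = N := by
      rw [hw, orderOf_pow_of_dvd hm0.ne' (hvo ▸ Dvd.intro _ hmN), hvo, ← hmN,
        Nat.mul_div_cancel_left _ hm0]
    refine ⟨Φ w, ?_, ?_, ?_⟩
    · show (CfsgLib.FormRep.adjU σ hσ (Fin 3)).ad (Φ w) * Φ w = 1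
      rw [hbar, ← map_mul, hD, hτq, ← pow_succ, ← hsN, mul_comm, pow_mul, ← hwo, pow_orderOf_eq_one,
        one_pow, map_one]
    · have hv : (Φ v).det ≠ 0 := by
        intro h
        have := congrArg Matrix.det (show Φ v * Φ v⁻¹ = 1 by
          rw [← map_mul, mul_inv_cancel₀ hv0, map_one])
        rw [Matrix.det_mul, h, zero_mul, Matrix.det_one] at this
        exact zero_ne_one this
      rw [hw, map_pow, Matrix.det_pow, hm, pow_mul, ← hK, FiniteField.pow_card_sub_one_eq_one _ hv,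
        one_pow]
    · rw [← hwo]; exact orderOf_injective Φ.toMonoidHom hΦ w
  -- change to the form `diag (1, -1, 1)`
  obtain ⟨ν, hν⟩ : ∃ ν : K, σ ν * ν = -1 := by
    rcases hp.eq_two_or_odd with h2 | hodd
    · refine ⟨1, ?_⟩
      subst h2
      rw [map_one, one_mul, CharTwo.neg_eq]
    · have hqo : Odd q := (Nat.odd_iff.2 hodd).pow
      obtain ⟨i, hi⟩ := hqo
      refine ⟨u ^ i, ?_⟩
      rw [hσq, ← pow_succ, ← pow_mul]
      set j := i * (q + 1)
      have h2j : 2 * j = q ^ 2 - 1 := by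
        rw [show q ^ 2 - 1 = (q + 1) * (q - 1) by simpa using Nat.sq_sub_sq q 1,
          show q - 1 = 2 * i by omega]
        ring
      have h1 : u ^ j * u ^ j = 1 := by rw [← pow_add, ← two_mul, h2j, ← huo, pow_orderOf_eq_one]
      refine (mul_self_eq_one_iff.1 h1).resolve_left fun h => ?_
      have := Nat.le_of_dvd (show 0 < j from Nat.mul_pos (by omega) (by omega))
        (huo ▸ orderOf_dvd_of_pow_eq_one h)
      have : 9 ≤ q ^ 2 := by nlinarith
      omega
  have hν0 : ν ≠ 0 := fun h => by rw [h] at hν; simp at hν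
  obtain ⟨B, hBH, hBo⟩ := exists_change_form σ A hA hdet hν0 hν
  obtain ⟨g, hg⟩ := exists_descent φ σ hσ hσφ hσr hσu B hBH
  exact ⟨g, by rw [hg, hBo, hAo]⟩

end CfsgLib.GTwoSpec
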