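import Mathlib

/-!
Orders of the elements of `SL₃` whose eigenvalues are permuted by `x ↦ x^q` or `x ↦ x^(-q)`.
-/

set_option autoImplicit false

namespace CfsgLib.GTwoSpec

open Polynomial

/-- The bound on element orders of `G₂(q)`. -/
def Good (p q n : ℕ) : Prop :=
  n ∣ p * (q + 1) ∨ n ∣ p * (q - 1) ∨ n ∣ q ^ 2 - 1 ∨ n ∣ q ^ 2 + q + 1 ∨ n ∣ q ^ 2 - q + 1 ∨
    ((p = 3 ∨ p = 5) ∧ n ∣ p ^ 2) ∨ (p = 2 ∧ (n ∣ 8 ∨ n ∣ 12))

lemma Good.of_dvd {p q n m : ℕ} (h : Good p q n) (hm : m ∣ n) : Good p q m := by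
  rcases h with h | h | h | h | h | ⟨h0, h⟩ | ⟨h0, h | h⟩
  · exact Or.inl (hm.trans h)
  · exact Or.inr (Or.inl (hm.trans h))
  · exact Or.inr (Or.inr (Or.inl (hm.trans h)))
  · exact Or.inr (Or.inr (Or.inr (Or.inl (hm.trans h))))
  · exact Or.inr (Or.inr (Or.inr (Or.inr (Or.inl (hm.trans h)))))
  · exact Or.inr (Or.inr (Or.inr (Or.inr (Or.inr (Or.inl ⟨h0, hm.trans h⟩)))))
  · exact Or.inr (Or.inr (Or.inr (Or.inr (Or.inr (Or.inr ⟨h0, Or.inl (hm.trans h)⟩)))))
  · exact Or.inr (Or.inr (Or.inr (Or.inr (Or.inr (Or.inr ⟨h0, Or.inr (hm.trans h)⟩)))))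

variable {L : Type*} [Field L]

lemma charpoly_fin_three' (B : Matrix (Fin 3) (Fin 3) L) :
    B.charpoly = X ^ 3 - C B.trace * X ^ 2 + C B.adjugate.trace * X - C B.det := by
  rw [Matrix.charpoly, Matrix.det_fin_three, Matrix.det_fin_three, Matrix.trace_fin_three,
    Matrix.trace_fin_three, Matrix.adjugate_fin_three]
  simp [Matrix.charmatrix_apply]
  ring

lemma prod_three (a b c : L) :
    (X - C a) * (X - C b) * (X - C c) =
      X ^ 3 - C (a + b + c) * X ^ 2 + C (a * b + b * c + c * a) * X - C (a * b * c) := by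
  simp only [map_add, map_mul]; ring

lemma cubic_inj {e₁ e₂ e₃ f₁ f₂ f₃ : L}
    (h : (X ^ 3 - C e₁ * X ^ 2 + C e₂ * X - C e₃ : L[X]) =
      X ^ 3 - C f₁ * X ^ 2 + C f₂ * X - C f₃) : e₁ = f₁ ∧ e₂ = f₂ ∧ e₃ = f₃ := by
  have h2 := congrArg (fun P : L[X] => P.coeff 2) h
  have h1 := congrArg (fun P : L[X] => P.coeff 1) h
  have h0 := congrArg (fun P : L[X] => P.coeff 0) h
  simp [coeff_X_pow, coeff_X, coeff_C] at h0 h1 h2
  exact ⟨h2, h1, h0⟩

lemma exists_roots_three [IsAlgClosed L] (P : L[X]) (hm : P.Monic) (hd : P.natDegree = 3) :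
    ∃ a b c : L, P = (X - C a) * (X - C b) * (X - C c) := by
  have hs := IsAlgClosed.splits P
  have hc : P.roots.card = 3 := by rw [← hd]; exact hs.natDegree_eq_card_roots.symm
  obtain ⟨a, b, c, habc⟩ := Multiset.card_eq_three.1 hc
  refine ⟨a, b, c, ?_⟩
  conv_lhs => rw [hs.eq_prod_roots_of_monic hm, habc]
  simp [mul_assoc]

lemma orderOf_dvd_of_charpoly_dvd {B : Matrix (Fin 3) (Fin 3) L} {N : ℕ}
    (h : B.charpoly ∣ X ^ N - 1) : orderOf B ∣ N := by
  obtain ⟨R, hR⟩ := h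
  have e := congrArg (aeval B) hR
  rw [map_mul, Matrix.aeval_self_charpoly, zero_mul, map_sub, map_pow, aeval_X, map_one,
    sub_eq_zero] at e
  exact orderOf_dvd_of_pow_eq_one e

lemma X_sub_dvd {a : L} {N : ℕ} (h : a ^ N = 1) : (X - C a) ∣ X ^ N - 1 := by
  rw [dvd_iff_isRoot, IsRoot, eval_sub, eval_pow, eval_X, eval_one, h, sub_self]

lemma pow_natAbs_eq_one {x : Lˣ} {m : ℤ} (h : x ^ m = 1) : (x : L) ^ m.natAbs = 1 := by
  rw [← Units.val_pow_eq_pow_val]
  have : x ^ m.natAbs = 1 := by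
    rcases Int.natAbs_eq m with e | e
    · rw [e, zpow_natCast] at h; exact h
    · rw [e, zpow_neg, inv_eq_one, zpow_natCast] at h; exact h
  rw [this, Units.val_one]

theorem sl3_roots (p : ℕ) [Fact p.Prime] [CharP L p] {q : ℕ} (hq : 2 ≤ q) {Q : ℤ}
    (hQ : Q = q ∨ Q = -q) {a b c : Lˣ} (habc : a * b * c = 1)
    (hinj : Function.Injective fun x : Lˣ => x ^ Q)
    (hmem : ∀ x ∈ [a, b, c], x ^ Q ∈ [a, b, c]) :
    ∃ N, ((X - C (a : L)) * (X - C (b : L)) * (X - C (c : L))) ∣ X ^ N - 1 ∧ Good p q N := by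
  have hp := (Fact.out : p.Prime).two_le
  have hfrob : ∀ N : ℕ, (X : L[X]) ^ (N * p) - 1 = (X ^ N - 1) ^ p := fun N => by
    rw [sub_pow_char, one_pow, pow_mul]
  -- divisibility for three distinct roots
  have hd3 : ∀ {x y z : Lˣ}, x ≠ y → x ≠ z → y ≠ z → ∀ N, (x : L) ^ N = 1 → (y : L) ^ N = 1 →
      (z : L) ^ N = 1 → ((X - C (x : L)) * (X - C (y : L)) * (X - C (z : L))) ∣ X ^ N - 1 := by
    intro x y z hxy hxz hyz N hx hy hz
    have hu : ∀ {u v : Lˣ}, u ≠ v → IsCoprime (X - C (u : L)) (X - C (v : L)) := fun h =>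
      isCoprime_X_sub_C_of_isUnit_sub (isUnit_iff_ne_zero.2 (sub_ne_zero.2 fun e => h (Units.ext e)))
    exact ((hu hxz).mul_left (hu hyz)).mul_dvd ((hu hxy).mul_dvd (X_sub_dvd hx) (X_sub_dvd hy))
      (X_sub_dvd hz)
  have hQ1 : Good p q (Q - 1).natAbs := by
    rcases hQ with rfl | rfl
    · exact Or.inr (Or.inl (by rw [show ((q : ℤ) - 1).natAbs = q - 1 by omega]; exact dvd_mul_left _ _))
    · exact Or.inl (by rw [show (-(q : ℤ) - 1).natAbs = q + 1 by omega]; exact dvd_mul_left _ _)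
  have hQp : Good p q ((Q - 1).natAbs * p) := by
    rcases hQ with rfl | rfl
    · exact Or.inr (Or.inl (by rw [show ((q : ℤ) - 1).natAbs = q - 1 by omega, mul_comm]))
    · exact Or.inl (by rw [show (-(q : ℤ) - 1).natAbs = q + 1 by omega, mul_comm])
  have hQ2 : Good p q (Q ^ 2 - 1).natAbs := by
    have e : (Q ^ 2 - 1).natAbs = q ^ 2 - 1 := by
      have h4 : 1 ≤ q ^ 2 := Nat.one_le_pow _ _ (by omega)
      rcases hQ with rfl | rfl <;> (try simp only [neg_sq]) <;>
        rw [show ((q : ℤ) ^ 2 - 1) = ((q ^ 2 - 1 : ℕ) : ℤ) by push_cast [h4]; ring, Int.natAbs_natCast]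
    exact Or.inr (Or.inr (Or.inl (e ▸ dvd_rfl)))
  have hQ3 : Good p q (Q ^ 2 + Q + 1).natAbs := by
    have h4 : q ≤ q ^ 2 := Nat.le_self_pow two_ne_zero q
    rcases hQ with rfl | rfl
    · refine Or.inr (Or.inr (Or.inr (Or.inl ?_)))
      rw [show ((q : ℤ) ^ 2 + q + 1) = ((q ^ 2 + q + 1 : ℕ) : ℤ) by push_cast; ring, Int.natAbs_natCast]
    · refine Or.inr (Or.inr (Or.inr (Or.inr (Or.inl ?_))))
      rw [show ((-(q : ℤ)) ^ 2 + -(q : ℤ) + 1) = ((q ^ 2 - q + 1 : ℕ) : ℤ) by push_cast [h4]; ring,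
        Int.natAbs_natCast]
  -- the case of a double root
  have hdbl : ∀ {x z : Lˣ}, x ≠ z → x * x * z = 1 → x ^ Q ∈ [x, x, z] → z ^ Q ∈ [x, x, z] →
      ((X - C (x : L)) * (X - C (x : L)) * (X - C (z : L))) ∣ X ^ ((Q - 1).natAbs * p) - 1 := by
    intro x z hne hprod hx hz
    have hxQ : x ^ Q = x := by
      simp only [List.mem_cons, List.not_mem_nil, or_false, or_self_left] at hx hz
      refine hx.resolve_right fun e => ?_
      have hzQ : z ^ Q = x := hz.resolve_right fun e' => hne (hinj (e.trans e'.symm))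
      have e1 : (x * x * z) ^ Q = 1 := by rw [hprod, one_zpow]
      rw [mul_zpow, mul_zpow, e, hzQ] at e1
      refine hne (mul_left_cancel (a := z * x) ?_)
      rw [mul_comm (z * x) z, ← mul_assoc, mul_assoc z x x, mul_comm z (x * x), hprod, ← e1]
    have hzQ : z ^ Q = z := by
      simp only [List.mem_cons, List.not_mem_nil, or_false, or_self_left] at hz
      exact hz.resolve_left fun e => hne (hinj (hxQ.trans e.symm))
    have hN : ∀ {u : Lˣ}, u ^ Q = u → (u : L) ^ (Q - 1).natAbs = 1 := fun {u} h =>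
      pow_natAbs_eq_one (by rw [zpow_sub_one, h, mul_inv_cancel])
    set M := (Q - 1).natAbs
    have hsq : (X - C (x : L)) * (X - C (x : L)) ∣ X ^ (M * p) - 1 := by
      rw [hfrob, ← sq]
      exact (pow_dvd_pow_of_dvd (X_sub_dvd (hN hxQ)) 2).trans (pow_dvd_pow _ hp)
    refine IsCoprime.mul_dvd ?_ hsq ((X_sub_dvd (hN hzQ)).trans ?_)
    · exact (isCoprime_X_sub_C_of_isUnit_sub (isUnit_iff_ne_zero.2 (sub_ne_zero.2
        fun e => hne (Units.ext e)))).mul_left (isCoprime_X_sub_C_of_isUnit_sub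
          (isUnit_iff_ne_zero.2 (sub_ne_zero.2 fun e => hne (Units.ext e))))
    · rw [pow_mul]; exact sub_one_dvd_pow_sub_one _ p
  by_cases hab : a = b
  · subst hab
    by_cases hac : a = c
    · subst hac
      have hfix : a ^ Q = a := by simpa using hmem a (by simp)
      have hN : (a : L) ^ (Q - 1).natAbs = 1 :=
        pow_natAbs_eq_one (by rw [zpow_sub_one, hfix, mul_inv_cancel])
      by_cases h2 : p = 2
      · refine ⟨12, ?_, Or.inr (Or.inr (Or.inr (Or.inr (Or.inr (Or.inr ⟨h2, Or.inr dvd_rfl⟩)))))⟩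
        subst h2
        have h3 : (a : L) ^ 3 = 1 := by
          rw [← Units.val_pow_eq_pow_val, pow_succ, sq, habc, Units.val_one]
        have e : (X : L[X]) ^ 12 - 1 = (X ^ 3 - 1) ^ (2 ^ 2) := by
          rw [sub_pow_char_pow, one_pow, ← pow_mul]; norm_num
        rw [e, ← sq, ← pow_succ]
        exact (pow_dvd_pow_of_dvd (X_sub_dvd h3) _).trans (pow_dvd_pow _ (by norm_num))
      · refine ⟨_, ?_, hQp⟩
        rw [hfrob, ← sq, ← pow_succ]
        exact (pow_dvd_pow_of_dvd (X_sub_dvd hN) _).trans (pow_dvd_pow _ (by omega))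
    · exact ⟨_, hdbl hac habc (hmem a (by simp)) (hmem c (by simp)), hQp⟩
  by_cases hac : a = c
  · subst hac
    refine ⟨_, ?_, hQp⟩
    rw [mul_right_comm]
    refine hdbl hab (by rw [mul_right_comm]; exact habc) ?_ ?_
    · have := hmem a (by simp); simp at this ⊢; tauto
    · have := hmem b (by simp); simp at this ⊢; tauto
  by_cases hbc : b = c
  · subst hbc
    refine ⟨_, ?_, hQp⟩
    rw [mul_comm (X - C (a : L)) (X - C (b : L)), mul_right_comm]
    refine hdbl (Ne.symm hab) (by rw [← habc]; ac_rfl) ?_ ?_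
    · have := hmem b (by simp); simp at this ⊢; tauto
    · have := hmem a (by simp); simp at this ⊢; tauto
  -- three distinct roots
  have inj : ∀ {x y : Lˣ}, x ^ Q = y ^ Q → x = y := fun h => hinj h
  have k1 : ∀ {x : Lˣ}, x ^ Q = x → x ^ (Q - 1) = 1 := fun {x} h => by
    rw [zpow_sub_one, h, mul_inv_cancel]
  have k2 : ∀ {x y : Lˣ}, x ^ Q = y → y ^ Q = x → x ^ (Q ^ 2 - 1) = 1 := fun {x y} h h' => by
    rw [zpow_sub_one, sq, zpow_mul, h, h', mul_inv_cancel]
  have k3 : ∀ {x y z : Lˣ}, x ^ Q = y → y ^ Q = z → x * y * z = 1 → x ^ (Q ^ 2 + Q + 1) = 1 :=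
    fun {x y z} h h' e => by
      rw [zpow_add_one, zpow_add, sq, zpow_mul, h, h', mul_comm z y, mul_comm (y * z) x, ← mul_assoc, e]
  have k12 : ∀ {x : Lˣ}, x ^ Q = x → x ^ (Q ^ 2 - 1) = 1 := fun {x} h => k2 h h
  have fin : ∀ m : ℤ, a ^ m = 1 → b ^ m = 1 → c ^ m = 1 → Good p q m.natAbs →
      ∃ N, ((X - C (a : L)) * (X - C (b : L)) * (X - C (c : L))) ∣ X ^ N - 1 ∧ Good p q N :=
    fun m ha hb hc hm => ⟨_, hd3 hab hac hbc _ (pow_natAbs_eq_one ha) (pow_natAbs_eq_one hb)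
      (pow_natAbs_eq_one hc), hm⟩
  have ha := hmem a (by simp)
  have hb := hmem b (by simp)
  have hc := hmem c (by simp)
  simp only [List.mem_cons, List.not_mem_nil, or_false] at ha hb hc
  rcases ha with ha | ha | ha <;> rcases hb with hb | hb | hb
  · exact absurd (inj (ha.trans hb.symm)) hab
  · rcases hc with hc | hc | hc
    · exact absurd (inj (ha.trans hc.symm)) hac
    · exact absurd (inj (hb.trans hc.symm)) hbc
    · exact fin _ (k1 ha) (k1 hb) (k1 hc) hQ1
  · rcases hc with hc | hc | hc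
    · exact absurd (inj (ha.trans hc.symm)) hac
    · exact fin _ (k12 ha) (k2 hb hc) (k2 hc hb) hQ2
    · exact absurd (inj (hb.trans hc.symm)) hbc
  · rcases hc with hc | hc | hc
    · exact absurd (inj (hb.trans hc.symm)) hbc
    · exact absurd (inj (ha.trans hc.symm)) hac
    · exact fin _ (k2 ha hb) (k2 hb ha) (k12 hc) hQ2
  · exact absurd (inj (ha.trans hb.symm)) hab
  · rcases hc with hc | hc | hc
    · exact fin _ (k3 ha hb habc) (k3 hb hc (by rw [← habc]; ac_rfl))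
        (k3 hc ha (by rw [← habc]; ac_rfl)) hQ3
    · exact absurd (inj (ha.trans hc.symm)) hac
    · exact absurd (inj (hb.trans hc.symm)) hbc
  · rcases hc with hc | hc | hc
    · exact absurd (inj (hb.trans hc.symm)) hbc
    · exact fin _ (k3 ha hc (by rw [← habc]; ac_rfl)) (k3 hb ha (by rw [← habc]; ac_rfl))
        (k3 hc hb (by rw [← habc]; ac_rfl)) hQ3
    · exact absurd (inj (ha.trans hc.symm)) hac
  · rcases hc with hc | hc | hc
    · exact fin _ (k2 ha hc) (k12 hb) (k2 hc ha) hQ2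
    · exact absurd (inj (hb.trans hc.symm)) hbc
    · exact absurd (inj (ha.trans hc.symm)) hac
  · exact absurd (inj (ha.trans hb.symm)) hab

lemma mem_of_prod_eq {x y z a b c : L}
    (h : (X - C x) * (X - C y) * (X - C z) = (X - C a) * (X - C b) * (X - C c)) :
    x = a ∨ x = b ∨ x = c := by
  have e := congrArg (eval x) h
  simp only [eval_mul, eval_sub, eval_X, eval_C, sub_self, zero_mul] at e
  simpa [sub_eq_zero, or_assoc] using e.symm

/-- The orders of the elements of `SL₃` whose eigenvalues are permuted by the twisted Frobenius. -/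
theorem sl3_bound [IsAlgClosed L] (p k : ℕ) [Fact p.Prime] [CharP L p] (hk : 1 ≤ k)
    (B : Matrix (Fin 3) (Fin 3) L) (hB : B.det = 1)
    (h : (B.trace ^ p ^ k = B.trace ∧ B.adjugate.trace ^ p ^ k = B.adjugate.trace) ∨
      (B.trace ^ p ^ k = B.adjugate.trace ∧ B.adjugate.trace ^ p ^ k = B.trace)) :
    Good p (p ^ k) (orderOf B) := by
  set q := p ^ k with hqd
  have hq : 2 ≤ q := (Fact.out : p.Prime).two_le.trans (Nat.le_self_pow (by omega) p)
  obtain ⟨a, b, c, hP⟩ := exists_roots_three B.charpoly B.charpoly_monic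
    (by rw [Matrix.charpoly_natDegree_eq_dim, Fintype.card_fin])
  obtain ⟨e1, e2, e3⟩ := cubic_inj ((charpoly_fin_three' B).symm.trans (hP.trans (prod_three a b c)))
  rw [hB] at e3
  have ha : a ≠ 0 := fun h0 => by simp [h0] at e3
  have hb : b ≠ 0 := fun h0 => by simp [h0] at e3
  have hc : c ≠ 0 := fun h0 => by simp [h0] at e3
  let φ : L →+* L := iterateFrobenius L p k
  have hφ : ∀ x : L, φ x = x ^ q := fun x => iterateFrobenius_def p k x
  let ua := Units.mk0 a ha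
  let ub := Units.mk0 b hb
  let uc := Units.mk0 c hc
  have habc : ua * ub * uc = 1 := Units.ext e3.symm
  have hinj : Function.Injective fun x : Lˣ => x ^ (q : ℤ) := fun x y h => by
    have h' := congrArg (fun u : Lˣ => (u : L)) h
    simp only [zpow_natCast, Units.val_pow_eq_pow_val, ← hφ] at h'
    exact Units.ext (φ.injective h')
  suffices h' : ∃ Q : ℤ, (Q = q ∨ Q = -q) ∧ (Function.Injective fun x : Lˣ => x ^ Q) ∧
      ∀ x ∈ [ua, ub, uc], x ^ Q ∈ [ua, ub, uc] by
    obtain ⟨Q, hQ, hinj, hmem⟩ := h'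
    obtain ⟨N, hN, hg⟩ := sl3_roots p hq hQ habc hinj hmem
    exact hg.of_dvd (orderOf_dvd_of_charpoly_dvd (hP ▸ hN))
  have hmap : ∀ x y z : L, (X - C (φ x)) * (X - C (φ y)) * (X - C (φ z)) =
      X ^ 3 - C (φ (x + y + z)) * X ^ 2 + C (φ (x * y + y * z + z * x)) * X -
        C (φ (x * y * z)) := fun x y z => by
    rw [prod_three]; simp only [map_add, map_mul]
  rcases h with ⟨h1, h2⟩ | ⟨h1, h2⟩
  · refine ⟨q, Or.inl rfl, hinj, ?_⟩
    rw [← hφ, e1] at h1
    rw [← hφ, e2] at h2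
    have m : ∀ x y z : L, x + y + z = a + b + c → x * y + y * z + z * x = a * b + b * c + c * a →
        x * y * z = a * b * c → φ x = a ∨ φ x = b ∨ φ x = c := fun x y z f1 f2 f3 =>
      mem_of_prod_eq (y := φ y) (z := φ z)
        (by rw [hmap, prod_three, f1, f2, f3, h1, h2, ← e3, map_one])
    intro x hx
    simp only [List.mem_cons, List.not_mem_nil, or_false] at hx ⊢
    simp only [Units.ext_iff, zpow_natCast, Units.val_pow_eq_pow_val, ← hφ]
    rcases hx with rfl | rfl | rfl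
    · exact m a b c rfl rfl rfl
    · exact m b c a (by ring) (by ring) (by ring)
    · exact m c a b (by ring) (by ring) (by ring)
  · refine ⟨-q, Or.inr rfl, fun x y h => hinj (inv_injective (by simpa only [zpow_neg] using h)), ?_⟩
    rw [← hφ, e1, e2] at h1
    rw [← hφ, e1, e2] at h2
    have hi : (X - C a⁻¹) * (X - C b⁻¹) * (X - C c⁻¹) =
        X ^ 3 - C (a * b + b * c + c * a) * X ^ 2 + C (a + b + c) * X - C 1 := by
      have i1 : a⁻¹ + b⁻¹ + c⁻¹ = a * b + b * c + c * a := by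
        field_simp
        linear_combination (a * b + b * c + c * a) * e3
      have i2 : a⁻¹ * b⁻¹ + b⁻¹ * c⁻¹ + c⁻¹ * a⁻¹ = a + b + c := by
        field_simp
        linear_combination (a + b + c) * e3
      have i3 : a⁻¹ * b⁻¹ * c⁻¹ = 1 := by rw [← mul_inv, ← mul_inv, ← e3, inv_one]
      rw [prod_three, i1, i2, i3]
    have m : ∀ x y z : L, x + y + z = a + b + c → x * y + y * z + z * x = a * b + b * c + c * a →
        x * y * z = a * b * c → φ x = a⁻¹ ∨ φ x = b⁻¹ ∨ φ x = c⁻¹ := fun x y z f1 f2 f3 =>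
      mem_of_prod_eq (y := φ y) (z := φ z) (by rw [hmap, hi, f1, f2, f3, h1, h2, ← e3, map_one])
    intro x hx
    simp only [List.mem_cons, List.not_mem_nil, or_false] at hx ⊢
    simp only [zpow_neg, inv_eq_iff_eq_inv, Units.ext_iff, zpow_natCast,
      Units.val_pow_eq_pow_val, ← hφ, Units.val_inv_eq_inv_val]
    rcases hx with rfl | rfl | rfl
    · exact m a b c rfl rfl rfl
    · exact m b c a (by ring) (by ring) (by ring)
    · exact m c a b (by ring) (by ring) (by ring)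

end CfsgLib.GTwoSpec
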