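import Cfsg.Agent.Lib.GTwoSpec.Alg
import Cfsg.Agent.Lib.GTwoSpec.Sl3
import Cfsg.Agent.Lib.GTwoSpec.Iso
import Cfsg.Agent.S1055

/-!
Unipotent elements of `G₂(q)` and fixed vectors of semisimple ones.
-/

set_option autoImplicit false

namespace CfsgLib.GTwoSpec

open Cfsg.Lie Cfsg.Agent.GTwoZorn Matrix

variable {F : Type*} [Field F]

theorem det_G2 [Fintype F] (hq : 3 ≤ Fintype.card F) (g : G2 F) :
    (g : GL (Fin 8) F).val.det = 1 := by
  classical
  obtain ⟨e⟩ := exists_equiv (F := F) hq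
  have hF : ∃ a : F, a ≠ 0 ∧ a ≠ 1 := by
    obtain ⟨x, -, hx⟩ := Finset.exists_mem_notMem_of_card_lt_card
      (s := ({0, 1} : Finset F)) (t := Finset.univ)
      (by rw [Finset.card_univ]; exact lt_of_le_of_lt Finset.card_le_two (by omega))
    simp only [Finset.mem_insert, Finset.mem_singleton, not_or] at hx
    exact ⟨x, hx⟩
  obtain ⟨hS, hN⟩ := Cfsg.Agent.S1055.result hF
  let d : ↥(chevG2.group F) →* Fˣ :=
    (Matrix.GeneralLinearGroup.det.comp (G2 F).subtype).comp e.toMonoidHom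
  rcases hS.eq_bot_or_eq_top_of_normal _ (MonoidHom.normal_ker d) with h | h
  · exact absurd ⟨⟨fun a b => (MonoidHom.ker_eq_bot_iff d).1 h (by
      rw [map_mul, map_mul, mul_comm])⟩⟩ hN
  · have h' : d (e.symm g) = 1 := MonoidHom.mem_ker.1 (h ▸ Subgroup.mem_top _)
    have h'' := congrArg Units.val h'
    simpa [d] using h''

lemma coe_pow_G2 (g : G2 F) (n : ℕ) :
    ((g ^ n : G2 F) : GL (Fin 8) F).val = (g : GL (Fin 8) F).val ^ n := by
  simp

lemma eq_one_of_val {g : G2 F} (h : (g : GL (Fin 8) F).val = 1) : g = 1 :=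
  Subtype.ext (Units.ext (by rw [h]; rfl))

lemma pow_card_eq_zero_of_isNilpotent {n R : Type*} [Fintype n] [DecidableEq n] [CommRing R]
    [IsDomain R] {N : Matrix n n R} (h : IsNilpotent N) : N ^ Fintype.card n = 0 := by
  have hc : N.charpoly = Polynomial.X ^ Fintype.card n :=
    sub_eq_zero.1 (IsNilpotent.eq_zero (Matrix.isNilpotent_charpoly_sub_pow_of_isNilpotent h))
  have := Matrix.aeval_self_charpoly N
  rwa [hc, map_pow, Polynomial.aeval_X] at this

theorem good_of_unipotent (p : ℕ) [Fact p.Prime] [CharP F p] {q k : ℕ} (g : G2 F)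
    (hg : g ^ p ^ k = 1) : Good p q (orderOf g) := by
  set T := (g : GL (Fin 8) F).val with hT
  have hTp : T ^ p ^ k = 1 := by rw [hT, ← coe_pow_G2, hg]; rfl
  have hnil : IsNilpotent (T - 1) := ⟨p ^ k, by
    rw [sub_pow_char_pow_of_commute _ _ (Commute.one_right T), hTp, one_pow, sub_self]⟩
  have h8 : (T - 1) ^ 8 = 0 := by
    have := pow_card_eq_zero_of_isNilpotent hnil
    rwa [Fintype.card_fin] at this
  have key : ∀ j, (T - 1) ^ p ^ j = 0 → orderOf g ∣ p ^ j := fun j hj => by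
    refine orderOf_dvd_of_pow_eq_one (eq_one_of_val ?_)
    rw [coe_pow_G2, ← hT]
    rwa [sub_pow_char_pow_of_commute _ _ (Commute.one_right T), one_pow, sub_eq_zero] at hj
  have up : ∀ {i j}, (T - 1) ^ i = 0 → i ≤ j → (T - 1) ^ j = 0 := fun h hij => by
    rw [← Nat.add_sub_cancel' hij, pow_add, h, zero_mul]
  have hp := (Fact.out : p.Prime)
  by_cases h2 : p = 2
  · exact Or.inr (Or.inr (Or.inr (Or.inr (Or.inr (Or.inr
      ⟨h2, Or.inl ((key 3 (up h8 (by subst h2; norm_num))).trans (by subst h2; norm_num))⟩)))))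
  by_cases h35 : p = 3 ∨ p = 5
  · exact Or.inr (Or.inr (Or.inr (Or.inr (Or.inr (Or.inl
      ⟨h35, key 2 (up h8 (by rcases h35 with rfl | rfl <;> norm_num))⟩)))))
  have h7 : 7 ≤ p := by
    have := hp.two_le
    by_contra hlt
    have : p = 4 ∨ p = 6 := by omega
    rcases this with rfl | rfl <;> exact absurd hp (by norm_num)
  have h2F : (2 : F) ≠ 0 := fun h => by
    have := (CharP.cast_eq_zero_iff F p 2).1 (by exact_mod_cast h)
    exact absurd (Nat.le_of_dvd two_pos this) (by omega)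
  -- on the elements of trace zero
  let trL : (Fin 8 → F) →ₗ[F] F :=
    { toFun := tr8, map_add' := tr8_add, map_smul' := fun a x => tr8_smul a x }
  let N : (Fin 8 → F) →ₗ[F] (Fin 8 → F) := Matrix.toLin' (T - 1)
  have hN : ∀ x, N x = gap g x - x := fun x => by
    show (T - 1) *ᵥ x = _
    rw [Matrix.sub_mulVec, Matrix.one_mulVec]; rfl
  have hinv : ∀ x, N x ∈ LinearMap.ker trL := fun x => by
    show tr8 (N x) = 0
    rw [hN, sub_eq_add_neg, tr8_add, ← neg_one_smul F x, tr8_smul, tr8_gap]; ring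
  let NW : LinearMap.ker trL →ₗ[F] LinearMap.ker trL := N.restrict fun x _ => hinv x
  have hfr : Module.finrank F (LinearMap.ker trL) = 7 := by
    have hs : Function.Surjective trL := fun c =>
      ⟨c • (pk 1 0 0 0), by show tr8 _ = c; simp [tr8, pk]⟩
    have h := LinearMap.finrank_range_add_finrank_ker trL
    rw [LinearMap.range_eq_top.2 hs, finrank_top, Module.finrank_self, Module.finrank_fin_fun] at h
    omega
  have hpowW : ∀ (n : ℕ) (x : LinearMap.ker trL), ((NW ^ n) x : Fin 8 → F) = ((T - 1) ^ n) *ᵥ x.1 := by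
    intro n
    induction n with
    | zero => intro x; simp
    | succ n ih =>
      intro x
      rw [pow_succ, Module.End.mul_apply, ih, pow_succ, ← Matrix.mulVec_mulVec]
      rfl
  have hW7 : NW ^ 7 = 0 := by
    have hc : NW.charpoly = Polynomial.X ^ 7 := by
      rw [← hfr]
      exact (LinearMap.charpoly_eq_X_pow_iff NW).2 fun x => ⟨8, Subtype.ext (by
        rw [hpowW, h8, Matrix.zero_mulVec]; rfl)⟩
    have := LinearMap.aeval_self_charpoly NW
    rwa [hc, map_pow, Polynomial.aeval_X] at this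
  have h7z : (T - 1) ^ 7 = 0 := by
    refine Matrix.ext_of_mulVec_single fun j => ?_
    rw [Matrix.zero_mulVec]
    set x : Fin 8 → F := Pi.single j 1
    have hx : x - (tr8 x / 2) • one8 ∈ LinearMap.ker trL := by
      show tr8 _ = 0
      rw [sub_eq_add_neg, tr8_add, ← neg_smul, tr8_smul, tr8_one]; field_simp; ring
    have h1 : (T - 1) *ᵥ one8 = 0 := by
      have := hN one8
      rw [gap_one8, sub_self] at this
      exact this
    have h2 := hpowW 7 ⟨_, hx⟩
    rw [hW7] at h2
    simp only [LinearMap.zero_apply, ZeroMemClass.coe_zero, Matrix.mulVec_sub,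
      Matrix.mulVec_smul] at h2
    rw [show (T - 1) ^ 7 = (T - 1) ^ 6 * (T - 1) from pow_succ _ _, ← Matrix.mulVec_mulVec one8,
      h1, Matrix.mulVec_zero, smul_zero, sub_zero] at h2
    rw [show (T - 1) ^ 7 = (T - 1) ^ 6 * (T - 1) from pow_succ _ _]
    exact h2.symm
  exact Or.inr (Or.inl ((key 1 (up h7z (by rw [pow_one]; exact h7))).trans
    (by rw [pow_one]; exact dvd_mul_right _ _)))

/-- The average over a cyclic group. -/
def avg (s : G2 F) (m : ℕ) (w : Fin 8 → F) : Fin 8 → F := ∑ i ∈ Finset.range m, gap (s ^ i) w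

lemma gap_sum (g : G2 F) {ι : Type*} (S : Finset ι) (f : ι → Fin 8 → F) :
    gap g (∑ i ∈ S, f i) = ∑ i ∈ S, gap g (f i) := Matrix.mulVec_sum _ _ _

lemma gap_avg {s : G2 F} {m : ℕ} (hs : s ^ m = 1) (w : Fin 8 → F) :
    gap s (avg s m w) = avg s m w := by
  have e1 := Finset.sum_range_succ (fun i => gap (s ^ i) w) m
  rw [Finset.sum_range_succ' (fun i => gap (s ^ i) w) m, hs, pow_zero] at e1
  have e2 := add_right_cancel e1
  rw [avg, gap_sum]
  simpa only [← gap_mul, ← pow_succ'] using e2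

lemma tr8_avg (s : G2 F) (m : ℕ) (w : Fin 8 → F) : tr8 (avg s m w) = m * tr8 w := by
  induction m with
  | zero => simp [avg, tr8]
  | succ m ih => rw [avg, Finset.sum_range_succ, tr8_add, ← avg, ih, tr8_gap]; push_cast; ring

lemma gap_pow_fix {s : G2 F} {u : Fin 8 → F} (hu : gap s u = u) (i : ℕ) : gap (s ^ i) u = u := by
  induction i with
  | zero => rw [pow_zero, gap_one]
  | succ i ih => rw [pow_succ, gap_mul, hu, ih]

lemma bl_avg {s : G2 F} {u : Fin 8 → F} (hu : gap s u = u) (m : ℕ) (w : Fin 8 → F) :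
    bl u (avg s m w) = m * bl u w := by
  have key : bl u 0 = 0 := by simp [bl, dot3, zA, zB]
  induction m with
  | zero => simp [avg, key]
  | succ m ih =>
    have e : bl u (gap (s ^ m) w) = bl u w := by
      conv_lhs => rw [← gap_pow_fix hu m, bl_gap]
    rw [avg, Finset.sum_range_succ, bl_comm, bl_add_left, ← avg, bl_comm, ih, bl_comm _ u, e]
    push_cast; ring

/-- The Gram matrix of the polar form. -/
noncomputable def gram : Matrix (Fin 8) (Fin 8) F :=
  Matrix.of fun i j => bl (Pi.single i 1) (Pi.single j 1)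

lemma gram_mulVec (y : Fin 8 → F) :
    gram *ᵥ y = ![y 7, -y 4, -y 5, -y 6, -y 1, -y 2, -y 3, y 0] := by
  funext i
  fin_cases i <;>
    simp [gram, Matrix.mulVec, dotProduct, Fin.sum_univ_eight, bl, dot3, zA, zB, Pi.single_apply]

lemma bl_eq_gram (x y : Fin 8 → F) : bl x y = x ⬝ᵥ (gram *ᵥ y) := by
  rw [gram_mulVec]
  simp [dotProduct, Fin.sum_univ_eight, bl, dot3, zA, zB]; ring

lemma det_gram_ne : (gram : Matrix (Fin 8) (Fin 8) F).det ≠ 0 := by
  have h : (gram : Matrix (Fin 8) (Fin 8) F) * gram = 1 := by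
    refine Matrix.ext_of_mulVec_single fun j => ?_
    rw [← Matrix.mulVec_mulVec, gram_mulVec, gram_mulVec, Matrix.one_mulVec]
    funext i; fin_cases i <;> simp
  intro h0
  have := congrArg Matrix.det h
  rw [Matrix.det_mul, h0, Matrix.det_one, zero_mul] at this
  exact zero_ne_one this

theorem exists_fix_tr_zero [Fintype F] (hq : 3 ≤ Fintype.card F) (h2 : (2 : F) ≠ 0) (s : G2 F) :
    ∃ u, gap s u = u ∧ tr8 u = 0 ∧ u ≠ 0 := by
  classical
  set S := (s : GL (Fin 8) F).val
  set Si := ((s⁻¹ : G2 F) : GL (Fin 8) F).val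
  let P : Matrix (Fin 8) (Fin 8) F :=
    (2 : F)⁻¹ • Matrix.vecMulVec one8 (Pi.single 0 1 + Pi.single 7 1)
  have hP : ∀ x, P *ᵥ x = (tr8 x / 2) • one8 := fun x => by
    rw [Matrix.smul_mulVec, Matrix.vecMulVec_mulVec, op_smul_eq_smul, smul_smul, add_dotProduct,
      single_dotProduct, single_dotProduct, one_mul, one_mul, div_eq_inv_mul]
    rfl
  have hS : ∀ x, S *ᵥ x = gap s x := fun x => rfl
  have hSi : ∀ x, Si *ᵥ x = gap s⁻¹ x := fun x => rfl
  by_contra hno
  push Not at hno
  set M := S - 1 + P with hM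
  have hMx : ∀ x, M *ᵥ x = gap s x - x + (tr8 x / 2) • one8 := fun x => by
    rw [hM, Matrix.add_mulVec, Matrix.sub_mulVec, Matrix.one_mulVec, hP, hS]
  have hdet : M.det ≠ 0 := by
    intro h0
    obtain ⟨x, hx0, hx⟩ := Matrix.exists_mulVec_eq_zero_iff.2 h0
    rw [hMx] at hx
    have ht : tr8 x = 0 := by
      have h := congrArg tr8 hx
      rw [tr8_add, sub_eq_add_neg, tr8_add, ← neg_one_smul F x, tr8_smul, tr8_gap, tr8_smul,
        tr8_one] at h
      have h0' : tr8 (0 : Fin 8 → F) = 0 := by simp [tr8]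
      rw [h0'] at h
      field_simp at h
      linear_combination h
    rw [ht, zero_div, zero_smul, add_zero, sub_eq_zero] at hx
    exact hx0 (hno x hx ht)
  set M' := 1 - S + P
  set M'' := Si - 1 + P
  have hM''x : ∀ x, M'' *ᵥ x = gap s⁻¹ x - x + (tr8 x / 2) • one8 := fun x => by
    show (Si - 1 + P) *ᵥ x = _
    rw [Matrix.add_mulVec, Matrix.sub_mulVec, Matrix.one_mulVec, hP, hSi]
  have hM'x : ∀ x, M' *ᵥ x = x - gap s x + (tr8 x / 2) • one8 := fun x => by
    show (1 - S + P) *ᵥ x = _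
    rw [Matrix.add_mulVec, Matrix.sub_mulVec, Matrix.one_mulVec, hP, hS]
  have hadj : Mᵀ * gram = gram * M'' := by
    have hb : ∀ x y, bl (M *ᵥ x) y = bl x (M'' *ᵥ y) := fun x y => by
      have e : bl (gap s x) y = bl x (gap s⁻¹ y) := by
        rw [← bl_gap s x (gap s⁻¹ y), gap_gap_inv]
      rw [hMx, hM''x, sub_eq_add_neg, bl_add_left, bl_add_left, bl_smul_left, ← neg_one_smul F x,
        bl_smul_left, bl_one, bl_comm x (_ + _), sub_eq_add_neg, bl_add_left, bl_add_left,
        bl_smul_left, ← neg_one_smul F y, bl_smul_left, bl_one, bl_comm (gap s⁻¹ y), e, bl_comm y]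
      ring
    ext i j
    have h := hb (Pi.single i 1) (Pi.single j 1)
    rw [bl_eq_gram, bl_eq_gram, Matrix.mulVec_mulVec _ gram, dotProduct_comm,
      Matrix.dotProduct_mulVec, ← Matrix.mulVec_transpose, Matrix.mulVec_mulVec] at h
    simpa [Matrix.mulVec_single_one, dotProduct_single, single_dotProduct] using h
  have hd1 : M''.det = M'.det := by
    have h : S * M'' = M' := by
      refine Matrix.ext_of_mulVec_single fun j => ?_
      rw [← Matrix.mulVec_mulVec, hM''x, hS, gap_add, gap_sub, gap_gap_inv, gap_smul, gap_one8, hM'x]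
    rw [← h, Matrix.det_mul, det_G2 hq, one_mul]
  let R : Matrix (Fin 8) (Fin 8) F := -1 + (2 : F) • P
  have hR : R.det = -1 := by
    have e : R = -(1 + Matrix.vecMulVec (-one8) (Pi.single 0 1 + Pi.single 7 1)) := by
      simp only [R, P, smul_smul, mul_inv_cancel₀ h2, one_smul, Matrix.neg_vecMulVec]; abel
    rw [e, Matrix.det_neg, Matrix.vecMulVec_eq Unit, Matrix.det_one_add_replicateCol_mul_replicateRow,
      Fintype.card_fin, dotProduct_neg, add_dotProduct, single_dotProduct, single_dotProduct]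
    simp [one8, pk]
    norm_num
  have hd2 : M'.det = -M.det := by
    have h : M * R = M' := by
      refine Matrix.ext_of_mulVec_single fun j => ?_
      set x : Fin 8 → F := Pi.single j 1
      have hRx : R *ᵥ x = -x + tr8 x • one8 := by
        show (-1 + (2 : F) • P) *ᵥ x = _
        rw [Matrix.add_mulVec, Matrix.neg_mulVec, Matrix.one_mulVec, Matrix.smul_mulVec, hP, smul_smul,
          mul_div_cancel₀ _ h2]
      rw [← Matrix.mulVec_mulVec, hRx, hMx, hM'x, gap_add, gap_smul, gap_one8, ← neg_one_smul F x,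
        gap_smul, tr8_add, tr8_smul, tr8_smul, tr8_one]
      have : (-1 * tr8 x + tr8 x * 2) / 2 = tr8 x / 2 := by ring
      rw [this]
      module
    rw [← h, Matrix.det_mul, hR, mul_neg, mul_one]
  have h := congrArg Matrix.det hadj
  rw [Matrix.det_mul, Matrix.det_mul, Matrix.det_transpose, hd1, hd2, mul_comm] at h
  have := mul_left_cancel₀ det_gram_ne h
  exact hdet ((mul_eq_zero.1 (show (2 : F) * M.det = 0 by linear_combination this)).resolve_left h2)

/-- An element of order prime to the characteristic fixes an element generating a quadratic algebra. -/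
theorem exists_fix_sep [Fintype F] (hq : 3 ≤ Fintype.card F) {s : G2 F} {m : ℕ}
    (hm : (m : F) ≠ 0) (hs : s ^ m = 1) :
    ∃ y, gap s y = y ∧ tr8 y ^ 2 - 4 * nm8 y ≠ 0 := by
  by_cases h2 : (2 : F) = 0
  · refine ⟨avg s m (pk 1 0 0 0), gap_avg hs _, ?_⟩
    rw [tr8_avg, show (4 : F) = 0 by linear_combination (2 : F) * h2, zero_mul, sub_zero,
      show tr8 (pk 1 0 0 0 : Fin 8 → F) = 1 by simp [tr8, pk], mul_one]
    exact pow_ne_zero _ hm
  have h4 : (4 : F) ≠ 0 := fun h => h2 (pow_eq_zero_iff (n := 2) two_ne_zero |>.1 (by linear_combination h))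
  obtain ⟨u, hu, htu, hu0⟩ := exists_fix_tr_zero hq h2 s
  have fin : ∀ {x}, gap s x = x → tr8 x = 0 → nm8 x ≠ 0 →
      ∃ y, gap s y = y ∧ tr8 y ^ 2 - 4 * nm8 y ≠ 0 := fun {x} hx ht hn =>
    ⟨x, hx, by rw [ht, zero_pow two_ne_zero, zero_sub, neg_ne_zero]; exact mul_ne_zero h4 hn⟩
  by_cases hnu : nm8 u = 0
  swap; · exact fin hu htu hnu
  obtain ⟨w, hw⟩ := exists_bl_ne hu0
  set v := avg s m w + (-(tr8 (avg s m w) / 2)) • one8 with hv
  have hvs : gap s v = v := by rw [hv, gap_add, gap_avg hs, gap_smul, gap_one8]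
  have hvt : tr8 v = 0 := by rw [hv, tr8_add, tr8_smul, tr8_one]; field_simp; ring
  have huv : bl u v ≠ 0 := by
    rw [hv, bl_comm, bl_add_left, bl_smul_left, bl_one, htu, mul_zero, add_zero, bl_comm, bl_avg hu]
    exact mul_ne_zero hm hw
  by_cases hnv : nm8 v = 0
  swap; · exact fin hvs hvt hnv
  refine fin (x := u + v) (by rw [gap_add, hu, hvs]) (by rw [tr8_add, htu, hvt, add_zero]) ?_
  rwa [nm8_add, hnu, hnv, zero_add, zero_add]

end CfsgLib.GTwoSpec
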