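import Cfsg.Agent.Lib.GTwoSpec.Bound
import Cfsg.Agent.Lib.GTwoSpec.Exist

/-!
The element orders of the Chevalley group of type G2.
-/

set_option autoImplicit false

namespace CfsgLib.GTwoSpec

open Cfsg.Lie Cfsg.Agent.GTwoZorn

variable {F : Type*} [Field F] [Fintype F]

/-- The maximal orders. -/
def targets (p q : ℕ) : Set ℕ :=
  {p * (q + 1), p * (q - 1), q ^ 2 - 1, q ^ 2 + q + 1, q ^ 2 - q + 1} ∪
    ((if p = 3 ∨ p = 5 then ({p ^ 2} : Set ℕ) else ∅) ∪ (if p = 2 then ({8, 12} : Set ℕ) else ∅))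

theorem range_eq (hq : 3 ≤ Fintype.card F) :
    Set.range (orderOf : ↥(chevG2.group F) → ℕ) = Set.range (orderOf : G2 F → ℕ) := by
  obtain ⟨e⟩ := exists_equiv (F := F) hq
  ext n
  constructor
  · rintro ⟨g, rfl⟩; exact ⟨e g, MulEquiv.orderOf_eq e g⟩
  · rintro ⟨g, rfl⟩; exact ⟨e.symm g, MulEquiv.orderOf_eq e.symm g⟩

theorem exists_target_dvd (p a : ℕ) [Fact p.Prime] [CharP F p] (ha : 1 ≤ a)
    (hF : Fintype.card F = p ^ a) (hq : 3 ≤ Fintype.card F) {n : ℕ}
    (hn : n ∈ Set.range (orderOf : ↥(chevG2.group F) → ℕ)) : ∃ T ∈ targets p (p ^ a), n ∣ T := by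
  rw [range_eq hq] at hn
  obtain ⟨g, rfl⟩ := hn
  rcases good_orderOf p a ha hF hq g with h | h | h | h | h | ⟨h0, h⟩ | ⟨h0, h | h⟩
  · exact ⟨_, Or.inl (Or.inl rfl), h⟩
  · exact ⟨_, Or.inl (Or.inr (Or.inl rfl)), h⟩
  · exact ⟨_, Or.inl (Or.inr (Or.inr (Or.inl rfl))), h⟩
  · exact ⟨_, Or.inl (Or.inr (Or.inr (Or.inr (Or.inl rfl)))), h⟩
  · exact ⟨_, Or.inl (Or.inr (Or.inr (Or.inr (Or.inr rfl)))), h⟩
  · exact ⟨p ^ 2, Or.inr (Or.inl (by rw [if_pos h0]; rfl)), h⟩
  · exact ⟨8, Or.inr (Or.inr (by rw [if_pos h0]; exact Or.inl rfl)), h⟩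
  · exact ⟨12, Or.inr (Or.inr (by rw [if_pos h0]; exact Or.inr rfl)), h⟩

theorem targets_subset (p a : ℕ) [Fact p.Prime] [CharP F p] (ha : 1 ≤ a)
    (hF : Fintype.card F = p ^ a) (hq : 3 ≤ Fintype.card F) :
    targets p (p ^ a) ⊆ Set.range (orderOf : ↥(chevG2.group F) → ℕ) := by
  rw [range_eq hq]
  rintro T ((rfl | rfl | rfl | rfl | rfl) | hT | hT)
  · exact exists_order_mul_add_one p hF (hF ▸ hq)
  · exact exists_order_mul_sub_one p hF
  · exact exists_order_sq_sub_one p hF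
  · exact exists_order_singer hF (hF ▸ hq)
  · exact exists_order_hermitian p a ha hF (hF ▸ hq)
  · split_ifs at hT with h
    · rw [Set.mem_singleton_iff] at hT
      subst hT
      rcases h with rfl | rfl
      · exact exists_order_nine
      · exact exists_order_twentyfive
    · exact hT.elim
  · split_ifs at hT with h
    · subst h
      rcases hT with rfl | rfl
      · exact exists_order_eight
      · exact exists_order_twelve
    · exact hT.elim

end CfsgLib.GTwoSpec
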