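import Cfsg.Agent.Lib.GTwoSpec.Alg
import Cfsg.Agent.Lib.GTwoSpec.Mem

/-!
Unipotent elements of orders 8, 9, 25 and an element of order 12 over the prime fields.
-/

set_option autoImplicit false

namespace CfsgLib.GTwoSpec

open Cfsg.Lie Cfsg.Agent.GTwoZorn Matrix

lemma fact_prime_five' : Fact (Nat.Prime 5) := ⟨by norm_num⟩

attribute [local instance] fact_prime_five'

/-- A matrix given by lists. -/
def mF (p : ℕ) (L : List (List ℕ)) : Matrix (Fin 8) (Fin 8) (ZMod p) :=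
  Matrix.of fun i j => (((L.getD i.val []).getD j.val 0 : ℕ) : ZMod p)

/-- The product of matrices given by lists. -/
def mulL (p : ℕ) (A B : List (List ℕ)) : List (List ℕ) :=
  List.ofFn fun i : Fin 8 => List.ofFn fun j : Fin 8 =>
    (List.ofFn fun k : Fin 8 => (A.getD i.val []).getD k.val 0 * (B.getD k.val []).getD j.val 0).sum % p

/-- Powers of matrices given by lists. -/
def powL (p : ℕ) (A : List (List ℕ)) : ℕ → List (List ℕ)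
  | 0 => List.ofFn fun i : Fin 8 => List.ofFn fun j : Fin 8 => if i = j then 1 else 0
  | n + 1 => mulL p (powL p A n) A

lemma mF_mulL (p : ℕ) (A B : List (List ℕ)) : mF p (mulL p A B) = mF p A * mF p B := by
  ext i j
  simp only [mF, mulL, Matrix.of_apply, Matrix.mul_apply, List.getD_eq_getElem?_getD,
    List.getElem?_ofFn, Fin.is_lt, dite_true, Option.getD_some, ZMod.natCast_mod, List.sum_ofFn,
    Nat.cast_sum, Nat.cast_mul]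

lemma mF_powL (p : ℕ) (A : List (List ℕ)) (n : ℕ) : mF p (powL p A n) = mF p A ^ n := by
  induction n with
  | zero =>
    ext i j
    simp only [mF, powL, Matrix.of_apply, List.getD_eq_getElem?_getD, List.getElem?_ofFn, Fin.is_lt,
      dite_true, Option.getD_some, pow_zero, Matrix.one_apply]
    split_ifs <;> simp
  | succ n ih => rw [powL, mF_mulL, ih, pow_succ]

lemma orderOf_mF (p : ℕ) [NeZero p] {L : List (List ℕ)} {r k : ℕ} (hr : r.Prime)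
    (h1 : powL p L (r ^ (k + 1)) = powL p L 0) (h2 : ¬ mF p (powL p L (r ^ k)) = 1) :
    orderOf (mF p L) = r ^ (k + 1) := by
  have := Fact.mk hr
  refine orderOf_eq_prime_pow (fun h => h2 (by rw [mF_powL, h])) ?_
  rw [← mF_powL, h1, mF_powL, pow_zero]

lemma orderOf_map_xG {F : Type*} [Field F] (p : ℕ) [Fact p.Prime] [CharP F p]
    (M : G2 (ZMod p)) : orderOf (extG (ZMod.castHom dvd_rfl F) M) = orderOf M :=
  orderOf_injective (extG (ZMod.castHom dvd_rfl F)) (extG_injective _) M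

lemma orderOf_G2_val {F : Type*} [Field F] (M : G2 F) :
    orderOf (M : GL (Fin 8) F).val = orderOf M := by
  rw [orderOf_units, Subgroup.orderOf_coe]

variable {F : Type*} [Field F]

theorem exists_order_eight [CharP F 2] : ∃ g : G2 F, orderOf g = 8 := by
  let M : G2 (ZMod 2) := ⟨_, xG_mem 0 (1 : ZMod 2)⟩ * ⟨_, xG_mem 8 (1 : ZMod 2)⟩
  refine ⟨extG (ZMod.castHom dvd_rfl F) M, ?_⟩
  rw [orderOf_map_xG, ← orderOf_G2_val]
  have hM : (M : GL (Fin 8) (ZMod 2)).val = mF 2 [[1, 0, 0, 0, 0, 1, 0, 0], [0, 1, 0, 0, 0, 0, 0, 0], [1, 0, 1, 0, 0, 1, 0, 1], [1, 0, 1, 1, 0, 1, 0, 1], [0, 0, 0, 1, 1, 0, 0, 0], [0, 1, 0, 0, 0, 1, 1, 0], [0, 1, 0, 0, 0, 0, 1, 0], [0, 0, 0, 0, 0, 1, 0, 1]] := by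
    show (xG 0 (1 : ZMod 2)).val * (xG 8 (1 : ZMod 2)).val = _
    rw [coe_xG (by norm_num), coe_xG (by norm_num)]
    decide +kernel
  rw [hM, orderOf_mF 2 (r := 2) (k := 2) (by norm_num) (by decide +kernel) (by decide +kernel)]
  norm_num

theorem exists_order_nine [CharP F 3] : ∃ g : G2 F, orderOf g = 9 := by
  let M : G2 (ZMod 3) := ⟨_, xG_mem 0 (1 : ZMod 3)⟩ * ⟨_, xG_mem 8 (1 : ZMod 3)⟩
  refine ⟨extG (ZMod.castHom dvd_rfl F) M, ?_⟩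
  rw [orderOf_map_xG, ← orderOf_G2_val]
  have hM : (M : GL (Fin 8) (ZMod 3)).val = mF 3 [[1, 0, 0, 0, 0, 1, 0, 0], [0, 1, 0, 0, 0, 0, 0, 0], [2, 0, 1, 0, 0, 2, 0, 1], [2, 0, 1, 1, 0, 2, 0, 1], [0, 0, 0, 2, 1, 0, 0, 0], [0, 2, 0, 0, 0, 1, 2, 0], [0, 1, 0, 0, 0, 0, 1, 0], [0, 0, 0, 0, 0, 2, 0, 1]] := by
    show (xG 0 (1 : ZMod 3)).val * (xG 8 (1 : ZMod 3)).val = _
    rw [coe_xG (by norm_num), coe_xG (by norm_num)]
    decide +kernel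
  rw [hM, orderOf_mF 3 (r := 3) (k := 1) (by norm_num) (by decide +kernel) (by decide +kernel)]
  norm_num

theorem exists_order_twentyfive [CharP F 5] : ∃ g : G2 F, orderOf g = 25 := by
  let M : G2 (ZMod 5) := ⟨_, xG_mem 0 (1 : ZMod 5)⟩ * ⟨_, xG_mem 8 (1 : ZMod 5)⟩
  refine ⟨extG (ZMod.castHom dvd_rfl F) M, ?_⟩
  rw [orderOf_map_xG, ← orderOf_G2_val]
  have hM : (M : GL (Fin 8) (ZMod 5)).val = mF 5 [[1, 0, 0, 0, 0, 1, 0, 0], [0, 1, 0, 0, 0, 0, 0, 0], [4, 0, 1, 0, 0, 4, 0, 1], [4, 0, 1, 1, 0, 4, 0, 1], [0, 0, 0, 4, 1, 0, 0, 0], [0, 4, 0, 0, 0, 1, 4, 0], [0, 1, 0, 0, 0, 0, 1, 0], [0, 0, 0, 0, 0, 4, 0, 1]] := by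
    show (xG 0 (1 : ZMod 5)).val * (xG 8 (1 : ZMod 5)).val = _
    rw [coe_xG (by norm_num), coe_xG (by norm_num)]
    decide +kernel
  rw [hM, orderOf_mF 5 (r := 5) (k := 1) (by norm_num) (by decide +kernel) (by decide +kernel)]
  norm_num

theorem exists_order_twelve [CharP F 2] : ∃ g : G2 F, orderOf g = 12 := by
  let M : G2 (ZMod 2) :=
    ⟨_, xG_mem 0 (1 : ZMod 2)⟩ * ⟨_, xG_mem 2 (1 : ZMod 2)⟩ * ⟨_, xG_mem 9 (1 : ZMod 2)⟩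
  refine ⟨extG (ZMod.castHom dvd_rfl F) M, ?_⟩
  rw [orderOf_map_xG, ← orderOf_G2_val]
  have hM : (M : GL (Fin 8) (ZMod 2)).val = mF 2 [[0, 0, 0, 0, 0, 0, 1, 1], [0, 1, 0, 0, 0, 1, 0, 0], [0, 0, 1, 0, 1, 0, 0, 0], [0, 0, 1, 0, 1, 0, 1, 0], [0, 0, 1, 0, 0, 0, 0, 0], [1, 1, 0, 1, 0, 0, 1, 1], [1, 0, 0, 1, 0, 0, 1, 1], [1, 0, 0, 0, 0, 0, 1, 0]] := by
    show (xG 0 (1 : ZMod 2)).val * (xG 2 (1 : ZMod 2)).val * (xG 9 (1 : ZMod 2)).val = _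
    rw [coe_xG (by norm_num), coe_xG (by norm_num), coe_xG (by norm_num)]
    decide +kernel
  rw [hM]
  generalize hA : mF 2 [[0, 0, 0, 0, 0, 0, 1, 1], [0, 1, 0, 0, 0, 1, 0, 0], [0, 0, 1, 0, 1, 0, 0, 0], [0, 0, 1, 0, 1, 0, 1, 0], [0, 0, 1, 0, 0, 0, 0, 0], [1, 1, 0, 1, 0, 0, 1, 1], [1, 0, 0, 1, 0, 0, 1, 1], [1, 0, 0, 0, 0, 0, 1, 0]] = A
  have h12 : A ^ 12 = 1 := by rw [← hA, ← mF_powL, show powL 2 [[0, 0, 0, 0, 0, 0, 1, 1], [0, 1, 0, 0, 0, 1, 0, 0], [0, 0, 1, 0, 1, 0, 0, 0], [0, 0, 1, 0, 1, 0, 1, 0], [0, 0, 1, 0, 0, 0, 0, 0], [1, 1, 0, 1, 0, 0, 1, 1], [1, 0, 0, 1, 0, 0, 1, 1], [1, 0, 0, 0, 0, 0, 1, 0]] 12 = powL 2 [[0, 0, 0, 0, 0, 0, 1, 1], [0, 1, 0, 0, 0, 1, 0, 0], [0, 0, 1, 0, 1, 0, 0, 0], [0, 0, 1, 0, 1, 0, 1, 0], [0, 0, 1, 0, 0, 0, 0, 0], [1, 1, 0, 1, 0, 0, 1, 1], [1, 0, 0, 1, 0, 0, 1, 1], [1, 0, 0, 0, 0, 0, 1, 0]] 0 by decide +kernel, mF_powL,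 pow_zero]
  have h6 : A ^ 6 ≠ 1 := by rw [← hA, ← mF_powL]; decide +kernel
  have h4 : A ^ 4 ≠ 1 := by rw [← hA, ← mF_powL]; decide +kernel
  refine (orderOf_eq_iff (by norm_num)).2 ⟨h12, fun m hm hm0 h => ?_⟩
  have hd : m.gcd 12 ∈ ({1, 2, 3, 4, 6} : Finset ℕ) := by
    revert hm0; interval_cases m <;> decide
  have hg : A ^ m.gcd 12 = 1 := pow_gcd_eq_one.2 ⟨h, h12⟩
  simp only [Finset.mem_insert, Finset.mem_singleton] at hd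
  rcases hd with e | e | e | e | e <;> rw [e] at hg
  · exact h6 (by rw [show 6 = 1 * 6 from rfl, pow_mul, hg, one_pow])
  · exact h6 (by rw [show 6 = 2 * 3 from rfl, pow_mul, hg, one_pow])
  · exact h6 (by rw [show 6 = 3 * 2 from rfl, pow_mul, hg, one_pow])
  · exact h4 hg
  · exact h6 hg

end CfsgLib.GTwoSpec
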